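import Groth.Agent.H28Mero.Div
import Groth.Agent.H4Depth.DepthLemmas
import Groth.Agent.H29Blow.PointsOfAffine

/-!
# Divisors and points of depth one
-/

set_option autoImplicit false

universe u

open CategoryTheory AlgebraicGeometry TopologicalSpace Opposite IsLocalRing
open scoped Pointwise

namespace Groth.Agent.H28Mero

/-- If `(b : n)` is primary to the maximal ideal and proper, the depth is one. -/
theorem depth_eq_one_of_colon {A : Type u} [CommRing A] [IsNoetherianRing A] [IsLocalRing A] {b n : A}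
    (hb : b ∈ nonZeroDivisors A) (hn : ¬ b ∣ n)
    (h : ∀ p : Ideal A, p.IsPrime → p ≠ maximalIdeal A → ∃ t ∉ p, b ∣ t * n) :
    LocCoh.depth A A = 1 := by
  have hbm : b ∈ maximalIdeal A := (mem_maximalIdeal b).mpr fun hu => hn (hu.dvd)
  have hreg : IsSMulRegular A b := fun x y hxy => by
    simp only [smul_eq_mul] at hxy
    exact (mul_cancel_left_mem_nonZeroDivisors hb).mp hxy
  let J : Ideal A := Submodule.colon (Ideal.span {b}) {n}
  have hJ : ∀ t, t ∈ J ↔ b ∣ t * n := fun t => by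
    rw [Submodule.mem_colon_singleton, smul_eq_mul, Ideal.mem_span_singleton]
  have hrad : maximalIdeal A ≤ J.radical := by
    rw [Ideal.radical_eq_sInf]
    refine le_sInf fun p hp => ?_
    obtain ⟨hJp, hp⟩ := hp
    by_contra hne
    obtain ⟨t, ht, hbt⟩ := h p hp fun e => hne e.ge
    exact ht (hJp ((hJ t).mpr hbt))
  have hne : (maximalIdeal A) • (⊤ : Submodule A A) ≠ ⊤ := by
    simpa [Ideal.mul_top] using (maximalIdeal.isMaximal A).ne_top
  have h0 : LocCoh.idealDepth (maximalIdeal A) (QuotSMulTop b A) = 0 := by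
    rw [H4Depth.idealDepth_eq_zero_iff (H4Depth.smul_top_ne_top_of_one_le hbm hne)]
    intro x hx hx'
    obtain ⟨k, hk⟩ := hrad hx
    obtain ⟨c, hc⟩ := (hJ _).mp hk
    have h1 : (x ^ k) • (Submodule.mkQ (b • (⊤ : Submodule A A)) n) = 0 := by
      rw [← map_smul, Submodule.mkQ_apply, Submodule.Quotient.mk_eq_zero,
        Submodule.mem_smul_pointwise_iff_exists]
      exact ⟨c, trivial, by rw [smul_eq_mul, smul_eq_mul, hc]⟩
    have h2 : Submodule.mkQ (b • (⊤ : Submodule A A)) n = 0 :=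
      (hx'.pow k) (h1.trans (smul_zero _).symm)
    rw [Submodule.mkQ_apply, Submodule.Quotient.mk_eq_zero,
      Submodule.mem_smul_pointwise_iff_exists] at h2
    obtain ⟨d, -, hd⟩ := h2
    exact hn ⟨d, hd.symm⟩
  show LocCoh.idealDepth (maximalIdeal A) A = 1
  rw [← H4Depth.idealDepth_quotSMulTop_add_one hbm hreg, h0, zero_add]

variable {X : Scheme.{u}}

lemma regStalk_eq_nzd [IsLocallyNoetherian X] (x : X) :
    Mero.regStalk X x = nonZeroDivisors (X.presheaf.stalk x) := by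
  obtain ⟨W, hW, hxW, -⟩ := exists_isAffineOpen_mem_and_subset (X := X) (x := x) (U := ⊤) trivial
  haveI : IsNoetherianRing Γ(X, W) := IsLocallyNoetherian.component_noetherian ⟨W, hW⟩
  exact H29Mero.regStalk_eq hW (H29Mero.finite_weakAss hW) hxW

lemma isEffectiveAt_iff [IsLocallyNoetherian X] (D : Mero.Divisor X) (x : X)
    (g : (Mero.KStalk X x)ˣ) (hg : D.1 x = QuotientGroup.mk g) :
    Mero.IsEffectiveAt D x ↔ (g : Mero.KStalk X x) ∈ (aK x).range := by
  constructor
  · rintro ⟨a, ha⟩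
    obtain ⟨v, hv⟩ := germ_eq_iff.1 (ha.symm.trans hg)
    exact ⟨a * v, by rw [map_mul, hv]; rfl⟩
  · rintro ⟨r, hr⟩
    have hr' : r ∈ Mero.regStalk X x := by
      rw [regStalk_eq_nzd, mem_nonZeroDivisors_iff_right]
      intro s hs
      refine aK_injective x ?_
      have h1 := congrArg (aK x) hs
      rw [map_mul, hr, map_zero] at h1
      rw [map_zero]
      exact (g.isUnit.mul_left_eq_zero).mp h1
    exact ⟨⟨r, hr'⟩, by rw [hg]; exact congrArg _ (Units.ext hr.symm)⟩

lemma eq_one_of_effective (D : Mero.Divisor X) (x : X)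
    (h : Mero.IsEffectiveAt D x) (h' : Mero.IsEffectiveAt D⁻¹ x) : D.1 x = 1 := by
  obtain ⟨a, ha⟩ := h
  obtain ⟨a', ha'⟩ := h'
  change (D.1 x)⁻¹ = _ at ha'
  rw [ha, ← QuotientGroup.mk_inv, germ_eq_iff] at ha'
  obtain ⟨v, hv⟩ := ha'
  have h1 : aK x (a.1 * a'.1) = aK x v := by
    rw [map_mul]
    refine (congrArg (aK x a.1 * ·) hv).trans ?_
    show aK x a.1 * (_ * _) = _
    rw [← mul_assoc, IsUnit.mul_val_inv, one_mul]
  have hu : IsUnit a.1 := isUnit_of_mul_isUnit_left (y := a'.1) ((aK_injective x h1) ▸ v.isUnit)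
  rw [ha, QuotientGroup.eq_one_iff]
  exact ⟨hu.unit, Units.ext rfl⟩

lemma effective_of_eq_one (D : Mero.Divisor X) (x : X) (h : D.1 x = 1) : Mero.IsEffectiveAt D x :=
  ⟨1, h.trans (by rw [show (IsLocalization.map_units (Mero.KStalk X x) (1 : Mero.regStalk X x)).unit = 1 from
    Units.ext (map_one _), QuotientGroup.mk_one])⟩

/-- A point where a divisor is not effective generizes to such a point of depth one. -/
theorem exists_depth_one_of_not_effective [IsLocallyNoetherian X] (D : Mero.Divisor X) (x : X)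
    (hx : ¬ Mero.IsEffectiveAt D x) :
    ∃ z : X, z ⤳ x ∧ LocCoh.depth (X.presheaf.stalk z) (X.presheaf.stalk z) = 1 ∧
      ¬ Mero.IsEffectiveAt D z := by
  obtain ⟨U, hxU, f, hf⟩ := exists_local_rep D x
  obtain ⟨V, hVU, hxV, a₀, b₀, hab⟩ := exists_local_frac (f : Γ(Mero.kmod X, U)) ⟨x, hxU⟩
  obtain ⟨W, hW, hxW, hWV⟩ := exists_isAffineOpen_mem_and_subset (X := X) (x := x) (U := V) hxV
  have hWV' : W ≤ V := hWV
  haveI : IsNoetherianRing Γ(X, W) := IsLocallyNoetherian.component_noetherian ⟨W, hW⟩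
  let a : Γ(X, W) := X.presheaf.map (homOfLE hWV').op a₀
  let b : Γ(X, W) := X.presheaf.map (homOfLE hWV').op b₀.1
  have key : ∀ (y : X) (hy : y ∈ W), Mero.IsEffectiveAt D y ↔
      X.presheaf.germ W y hy b ∣ X.presheaf.germ W y hy a := by
    intro y hy
    rw [isEffectiveAt_iff D y (uval f ⟨y, hVU (hWV' hy)⟩) (hf ⟨y, hVU (hWV' hy)⟩)]
    have e := hab y (hWV' hy)
    simp only [a, b, germ_res]
    constructor
    · rintro ⟨r, hr⟩
      refine ⟨r, aK_injective y ?_⟩
      rw [← e, map_mul, hr, mul_comm]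
      rfl
    · rintro ⟨r, hr⟩
      refine ⟨r, (regular_isUnit b₀ y (hWV' hy)).mul_right_cancel ?_⟩
      refine Eq.trans ?_ e.symm
      rw [hr, map_mul, mul_comm]
  have key2 : ∀ (y : W), (X.presheaf.germ W y.1 y.2 b ∣ X.presheaf.germ W y.1 y.2 a) ↔
      ∃ t ∉ (hW.primeIdealOf y).asIdeal, b ∣ t * a := by
    intro y
    letI := TopCat.Presheaf.algebra_section_stalk X.presheaf y
    haveI := hW.isLocalization_stalk y
    constructor
    · rintro ⟨r, hr⟩
      obtain ⟨⟨s, c⟩, hs⟩ := IsLocalization.surj (hW.primeIdealOf y).asIdeal.primeCompl r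
      have h1 : algebraMap Γ(X, W) (X.presheaf.stalk y.1) (c * a) =
          algebraMap Γ(X, W) (X.presheaf.stalk y.1) (b * s) := by
        rw [map_mul, map_mul, ← hs]
        change _ * X.presheaf.germ W y.1 y.2 a = _
        rw [hr]
        change _ = X.presheaf.germ W y.1 y.2 b * _
        ring
      obtain ⟨d, hd⟩ := (IsLocalization.eq_iff_exists (hW.primeIdealOf y).asIdeal.primeCompl _).mp h1
      refine ⟨d * c, fun hm => ((hW.primeIdealOf y).isPrime.mem_or_mem hm).elim d.2 c.2, d * s, ?_⟩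
      rw [mul_assoc, hd]
      ring
    · rintro ⟨t, ht, c, hc⟩
      obtain ⟨v, hv⟩ := (not_not.mp ((H29Blow.mem_primeIdealOf_iff hW y t).not.mp ht) :
        IsUnit (X.presheaf.germ W y.1 y.2 t))
      refine ⟨↑v⁻¹ * X.presheaf.germ W y.1 y.2 c, ?_⟩
      have h1 := congrArg (X.presheaf.germ W y.1 y.2) hc
      rw [map_mul, map_mul, ← hv] at h1
      rw [mul_left_comm, ← h1, ← mul_assoc, Units.inv_mul, one_mul]
  let J : Ideal Γ(X, W) := Submodule.colon (Ideal.span {b}) {a}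
  have hJ : ∀ t, t ∈ J ↔ b ∣ t * a := fun t => by
    rw [Submodule.mem_colon_singleton, smul_eq_mul, Ideal.mem_span_singleton]
  have hJx : J ≤ (hW.primeIdealOf ⟨x, hxW⟩).asIdeal := fun t ht => by
    by_contra hne
    exact hx ((key x hxW).mpr ((key2 ⟨x, hxW⟩).mpr ⟨t, hne, (hJ t).mp ht⟩))
  obtain ⟨P, hP, hPx⟩ := Ideal.exists_minimalPrimes_le hJx
  obtain ⟨z, hz⟩ := H29Blow.exists_primeIdealOf_eq hW ⟨P, hP.1.1⟩
  have hPz : (hW.primeIdealOf z).asIdeal = P := congrArg PrimeSpectrum.asIdeal hz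
  have hnot : ¬ X.presheaf.germ W z.1 z.2 b ∣ X.presheaf.germ W z.1 z.2 a := fun hd => by
    obtain ⟨t, ht, htb⟩ := (key2 z).mp hd
    exact ht (hPz.symm ▸ hP.1.2 ((hJ t).mpr htb))
  refine ⟨z.1, (H29Blow.primeIdealOf_le_iff hW z ⟨x, hxW⟩).mp (hPz.le.trans hPx), ?_,
    fun h => hnot ((key z.1 z.2).mp h)⟩
  letI := TopCat.Presheaf.algebra_section_stalk X.presheaf z
  haveI := hW.isLocalization_stalk z
  haveI : IsNoetherianRing (X.presheaf.stalk z.1) :=
    IsLocalization.isNoetherianRing (hW.primeIdealOf z).asIdeal.primeCompl _ inferInstance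
  have hbz : X.presheaf.germ W z.1 z.2 b ∈ nonZeroDivisors (X.presheaf.stalk z.1) := by
    rw [show X.presheaf.germ W z.1 z.2 b = X.presheaf.germ V z.1 (hWV' z.2) b₀.1 from germ_res _ _ _ _]
    exact Mero.regStalk_le_nonZeroDivisors _ (Mero.germ_mem_regStalk ⟨z.1, hWV' z.2⟩ b₀.2)
  refine depth_eq_one_of_colon hbz hnot fun p hp hne => ?_
  have hQ : Ideal.comap (algebraMap Γ(X, W) (X.presheaf.stalk z.1)) p ≤ P := fun t ht => by
    rw [← hPz, H29Blow.mem_primeIdealOf_iff]
    exact fun hu => hp.ne_top (Ideal.eq_top_of_isUnit_mem _ ht hu)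
  have : ¬ J ≤ Ideal.comap (algebraMap Γ(X, W) (X.presheaf.stalk z.1)) p := fun hle => by
    have hge := hP.2 ⟨hp.comap _, hle⟩ hQ
    refine hne (le_antisymm (IsLocalRing.le_maximalIdeal hp.ne_top) ?_)
    rw [← IsLocalization.map_comap (hW.primeIdealOf z).asIdeal.primeCompl _ p,
      ← IsLocalization.AtPrime.map_eq_maximalIdeal (hW.primeIdealOf z).asIdeal (X.presheaf.stalk z.1), hPz]
    exact Ideal.map_mono hge
  obtain ⟨t, ht, htp⟩ := SetLike.not_le_iff_exists.mp this
  exact ⟨_, htp, by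
    have := map_dvd (X.presheaf.germ W z.1 z.2).hom ((hJ t).mp ht)
    rw [map_mul] at this
    exact this⟩

end Groth.Agent.H28Mero
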