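import Groth.Agent.H28Mero.Regular
import Groth.Agent.H28Mero.Depth
import Groth.Agent.H29Blow.QCohExt
import Groth.Agent.H11Tilde.Local

/-!
# Regular meromorphic sections when an affine open contains the associated points
-/

set_option autoImplicit false

universe u

open CategoryTheory AlgebraicGeometry TopologicalSpace Opposite

namespace Groth.Agent.H28Mero

variable {X : Scheme.{u}} {L : X.Modules}

theorem isQCoh_of_isInvertible (hL : PicF.IsInvertible L) : Coh.IsQCoh L := by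
  choose U hxU e using hL
  exact H11Tilde.isQuasicoherent_of_openImmersions (fun x => (U x).ι)
    (fun x => ⟨x, by rw [Scheme.Opens.range_ι]; exact hxU x⟩) L
    fun x => (SheafOfModules.isQuasicoherent.{u} (U x).toScheme.ringCatSheaf).prop_of_iso (e x).some.symm
      (H29Blow.isQCoh_structureModule (U x).toScheme)

/-- An element generating at a point generates near it. -/
lemma isGen_germ_of_specializes (hL : PicF.IsInvertible L) {W : X.Opens} (e : Γ(L, W)) {t t' : X}
    (ht : t ∈ W) (ht' : t' ∈ W) (hspec : t' ⤳ t)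
    (h : Function.Bijective fun r : X.presheaf.stalk t => r • L.presheaf.germ W t ht e) :
    Function.Bijective fun r : X.presheaf.stalk t' => r • L.presheaf.germ W t' ht' e := by
  obtain ⟨V, e₁, htV, he⟩ := H29Mero.exists_generator hL t
  obtain ⟨r, hr⟩ := (he t htV).2 (L.presheaf.germ W t ht e)
  obtain ⟨r', hr'⟩ := h.2 (L.presheaf.germ V t htV e₁)
  simp only at hr hr'
  have hu : IsUnit r := IsUnit.of_mul_eq_one r' (by
    apply (he t htV).1
    show (r * r') • _ = (1 : X.presheaf.stalk t) • _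
    rw [one_smul, mul_comm, mul_smul, hr, hr'])
  obtain ⟨T, htT, r₀, rfl⟩ := X.presheaf.exists_germ_eq r
  let r₁ : Γ(X, X.basicOpen r₀) := X.presheaf.map (homOfLE (X.basicOpen_le r₀)).op r₀
  have htO : t ∈ X.basicOpen r₀ := (X.mem_basicOpen r₀ t htT).mpr hu
  have h3 : t ∈ X.basicOpen r₀ ⊓ V := ⟨htO, htV⟩
  obtain ⟨O, htO', i, j, hO⟩ := L.presheaf.germ_eq t h3 ht
    (X.presheaf.map (homOfLE (inf_le_left : X.basicOpen r₀ ⊓ V ≤ _)).op r₁ •
      L.presheaf.map (homOfLE (inf_le_right : X.basicOpen r₀ ⊓ V ≤ V)).op e₁) e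
    (by
      rw [Mero.germ_smul, X.presheaf.germ_res_apply, L.presheaf.germ_res_apply, X.presheaf.germ_res_apply]
      exact hr)
  have ht'O : t' ∈ O := hspec.mem_open O.2 htO'
  have h1 := congrArg (L.presheaf.germ O t' ht'O) hO
  rw [L.presheaf.germ_res_apply, L.presheaf.germ_res_apply, Mero.germ_smul, X.presheaf.germ_res_apply,
    L.presheaf.germ_res_apply] at h1
  have hu' : IsUnit (X.presheaf.germ (X.basicOpen r₀) t' (i.le ht'O).1 r₁) :=
    (RingedSpace.isUnit_res_basicOpen X.toLocallyRingedSpace.toRingedSpace r₀).map _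
  obtain ⟨v, hv⟩ := hu'
  rw [← hv] at h1
  have hb := he t' (i.le ht'O).2
  rw [← h1]
  refine ⟨fun a b hab => ?_, fun m => ?_⟩
  · simp only [smul_smul] at hab
    exact v.isUnit.mul_right_cancel (hb.1 hab)
  · obtain ⟨a, ha⟩ := hb.2 m
    exact ⟨a * ↑v⁻¹, by simp only [smul_smul, mul_assoc, Units.inv_mul, mul_one]; exact ha⟩

/-- An invertible module has a section generating at finitely many points of an affine open. -/
theorem exists_section_gen (hL : PicF.IsInvertible L) {W : X.Opens} (hW : IsAffineOpen W) (T : Set W)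
    (hT : T.Finite) :
    ∃ e : Γ(L, W), ∀ t ∈ T, Function.Bijective fun r : X.presheaf.stalk t.1 =>
      r • L.presheaf.germ W t.1 t.2 e := by
  classical
  let P : W → PrimeSpectrum Γ(X, W) := fun t => hW.primeIdealOf t
  let T' : Set W := {t ∈ T | ∀ q ∈ T, (P t).asIdeal ≤ (P q).asIdeal → (P q).asIdeal ≤ (P t).asIdeal}
  haveI : Fintype T' := (hT.subset fun t h => h.1).fintype
  have hPinj : ∀ {a b : W}, (P a).asIdeal = (P b).asIdeal → a = b := fun {a b} h =>
    Subtype.ext ((((H29Blow.primeIdealOf_le_iff hW a b).mp (le_of_eq h)).antisymm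
      ((H29Blow.primeIdealOf_le_iff hW b a).mp (le_of_eq h.symm))).eq)
  have hgen : ∀ t : T', ∃ (s : Γ(L, W)), Function.Bijective fun r : X.presheaf.stalk t.1.1 =>
      r • L.presheaf.germ W t.1.1 t.1.2 s := by
    intro t
    obtain ⟨V, e₁, htV, he⟩ := H29Mero.exists_generator hL t.1.1
    obtain ⟨s, v, hs⟩ := H29Blow.exists_germ_eq_smul L (isQCoh_of_isInvertible hL) hW t.1
      (L.presheaf.germ V t.1.1 htV e₁)
    refine ⟨s, ?_⟩
    rw [hs]
    refine ⟨fun a b hab => ?_, fun m => ?_⟩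
    · simp only [smul_smul] at hab
      exact v.isUnit.mul_right_cancel ((he t.1.1 htV).1 hab)
    · obtain ⟨a, ha⟩ := (he t.1.1 htV).2 m
      exact ⟨a * ↑v⁻¹, by simp only [smul_smul, mul_assoc, Units.inv_mul, mul_one]; exact ha⟩
  choose s hs using hgen
  have hsep : ∀ t q : T', t ≠ q → ∃ c : Γ(X, W), c ∈ (P q.1).asIdeal ∧ c ∉ (P t.1).asIdeal := by
    intro t q hne
    refine Set.not_subset.mp fun hle => hne ?_
    exact Subtype.ext (hPinj (le_antisymm (q.2.2 t.1 t.2.1 hle) hle))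
  choose c hcq hct using hsep
  let C : T' → Γ(X, W) := fun t => ∏ q : T', if h : t ≠ q then c t q h else 1
  have hC1 : ∀ t : T', C t ∉ (P t.1).asIdeal := fun t h => by
    obtain ⟨q, -, hq⟩ := (P t.1).isPrime.prod_mem_iff.mp h
    by_cases hne : t ≠ q
    · rw [dif_pos hne] at hq; exact hct t q hne hq
    · rw [dif_neg hne] at hq; exact (P t.1).isPrime.ne_top ((Ideal.eq_top_iff_one _).mpr hq)
  have hC2 : ∀ t q : T', t ≠ q → C t ∈ (P q.1).asIdeal := fun t q hne =>
    Ideal.prod_mem (s := Finset.univ) _ (Finset.mem_univ q) (by rw [dif_pos hne]; exact hcq t q hne)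
  refine ⟨∑ q : T', C q • s q, fun t ht => ?_⟩
  obtain ⟨p, hp, hle, hmax⟩ : ∃ p ∈ T, (P t).asIdeal ≤ (P p).asIdeal ∧
      ∀ q ∈ T, (P p).asIdeal ≤ (P q).asIdeal → (P q).asIdeal ≤ (P p).asIdeal := by
    obtain ⟨p, ⟨hp1, hp2⟩, hp3⟩ := (hT.subset (fun _ h => h.1 : {q ∈ T | (P t).asIdeal ≤ (P q).asIdeal} ⊆ T)).exists_maximalFor
      (fun q => (P q).asIdeal) _ ⟨t, ht, le_rfl⟩
    exact ⟨p, hp1, hp2, fun q hq hpq => hp3 ⟨hq, hp2.trans hpq⟩ hpq⟩
  refine isGen_germ_of_specializes hL _ p.2 t.2 ((H29Blow.primeIdealOf_le_iff hW t p).mp hle) ?_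
  let p' : T' := ⟨p, hp, hmax⟩
  choose r hr using fun q : T' => (hs p').2 (L.presheaf.germ W p.1 p.2 (s q))
  simp only at hr
  have hsum : L.presheaf.germ W p.1 p.2 (∑ q : T', C q • s q) =
      (∑ q : T', X.presheaf.germ W p.1 p.2 (C q) * r q) • L.presheaf.germ W p.1 p.2 (s p') := by
    rw [map_sum, Finset.sum_smul]
    exact Finset.sum_congr rfl fun q _ => by rw [Mero.germ_smul, mul_smul]; exact congrArg _ (hr q).symm
  have hrp : r p' = 1 := (hs p').1 (by
    show r p' • _ = (1 : X.presheaf.stalk p.1) • _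
    rw [one_smul]; exact hr p')
  obtain ⟨v, hv⟩ : IsUnit (∑ q : T', X.presheaf.germ W p.1 p.2 (C q) * r q) := by
    by_contra hu
    refine hC1 p' ((H29Blow.mem_primeIdealOf_iff hW p (C p')).mpr fun hCu => ?_)
    have hm : (∑ q ∈ Finset.univ.erase p', X.presheaf.germ W p.1 p.2 (C q) * r q) ∈
        IsLocalRing.maximalIdeal (X.presheaf.stalk p.1) :=
      Ideal.sum_mem _ fun q hq => Ideal.mul_mem_right _ _ ((IsLocalRing.mem_maximalIdeal _).mpr
        ((H29Blow.mem_primeIdealOf_iff hW p (C q)).mp (hC2 q p' (Finset.ne_of_mem_erase hq))))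
    exact (IsLocalRing.mem_maximalIdeal _).mp ((Submodule.add_mem_iff_left _ hm).mp (by
        rw [Finset.add_sum_erase Finset.univ (fun q => X.presheaf.germ W p.1 p.2 (C q) * r q) (Finset.mem_univ p')]; exact (IsLocalRing.mem_maximalIdeal _).mpr hu))
        (hCu.mul (hrp ▸ isUnit_one))
  rw [hsum, ← hv]
  refine ⟨fun a b hab => ?_, fun m => ?_⟩
  · simp only [smul_smul] at hab
    exact v.isUnit.mul_right_cancel ((hs p').1 hab)
  · obtain ⟨a, ha⟩ := (hs p').2 m
    exact ⟨a * ↑v⁻¹, by simp only [smul_smul, mul_assoc, Units.inv_mul, mul_one]; exact ha⟩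

/-- On a locally Noetherian scheme with an affine open containing the associated points, invertible
modules have regular meromorphic sections. -/
theorem hasRegularMero_of_affine [IsLocallyNoetherian X] (hL : PicF.IsInvertible L) {W : X.Opens}
    (hW : IsAffineOpen W)
    (hWT : ∀ x : X, Curv2.IsWeakAssPoint (Coh.structureModule X) x → x ∈ W) :
    Mero.HasRegularMero L := by
  classical
  haveI : IsNoetherianRing Γ(X, W) := IsLocallyNoetherian.component_noetherian ⟨W, hW⟩
  obtain ⟨e, he⟩ := exists_section_gen hL hW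
    {t : W | Curv2.IsWeakAssPoint (Coh.structureModule X) t.1}
    (((H29Mero.finite_weakAss hW).preimage Subtype.val_injective.injOn).subset fun t ht => ⟨t.2, ht⟩)
  choose V ev hxV hev using fun x => H29Mero.exists_generator hL x
  have hloc : ∀ x : X, ∃ (A : X.Opens) (m : Γ(L, A)) (b : Mero.regSub X A) (hA : x ∈ A), A ≤ V x ∧
      (∃ r : X.presheaf.stalk x, r ∈ nonZeroDivisors _ ∧ ∀ hx : x ∈ V x, L.presheaf.germ A x hA m =
        r • L.presheaf.germ (V x) x hx (ev x)) ∧
      ∀ (y : X) (hy : y ∈ A) (hw : Curv2.IsWeakAssPoint (Coh.structureModule X) y),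
        (LocalizedModule.mk (L.presheaf.germ A y hy m) (Mero.regGerm ⟨y, hy⟩ b) : Mero.MStalk L y) =
          LocalizedModule.mk (L.presheaf.germ W y (hWT y hw) e) 1 := by
    intro x
    obtain ⟨A, hA, hxA, hAV'⟩ := exists_isAffineOpen_mem_and_subset (U := V x) (x := x) (hxV x)
    have hAV : A ≤ V x := hAV'
    haveI : IsNoetherianRing Γ(X, A) := IsLocallyNoetherian.component_noetherian ⟨A, hA⟩
    have hT := H29Mero.finite_weakAss hA
    haveI := hT.fintype
    let I : Ideal Γ(X, A) := ⨅ z : {z : A // z.1 ∉ W}, (hA.primeIdealOf z.1).asIdeal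
    have hI : ∀ b, b ∈ I → X.basicOpen b ≤ W := fun b hb z hz => by
      by_contra hzW
      have hzA := X.basicOpen_le b hz
      exact (H29Blow.mem_primeIdealOf_iff hA ⟨z, hzA⟩ b).mp
        ((Ideal.mem_iInf.mp hb) ⟨⟨z, hzA⟩, hzW⟩) ((X.mem_basicOpen b z hzA).mp hz)
    have hnot : ∀ t : {y : X | y ∈ A ∧ Curv2.IsWeakAssPoint (Coh.structureModule X) y},
        ¬ I ≤ (hA.primeIdealOf ⟨t.1, t.2.1⟩).asIdeal := by
      intro t hle
      obtain ⟨c, hc, htc⟩ := hA.exists_basicOpen_le (V := W) ⟨t.1, hWT t.1 t.2.2⟩ t.2.1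
      refine (H29Blow.mem_primeIdealOf_iff hA ⟨t.1, t.2.1⟩ c).mp (hle ?_)
        ((X.mem_basicOpen c t.1 t.2.1).mp htc)
      refine Ideal.mem_iInf.mpr fun z => (H29Blow.mem_primeIdealOf_iff hA z.1 c).mpr fun hu => ?_
      exact z.2 (hc ((X.mem_basicOpen c z.1.1 z.1.2).mpr hu))
    obtain ⟨b, hbI, hb⟩ : ∃ b ∈ I,
        ∀ t : {y : X | y ∈ A ∧ Curv2.IsWeakAssPoint (Coh.structureModule X) y},
          b ∉ (hA.primeIdealOf ⟨t.1, t.2.1⟩).asIdeal := by
      by_contra! hc
      have hsub : (I : Set Γ(X, A)) ⊆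
          ⋃ t ∈ (Set.univ : Set {y : X | y ∈ A ∧ Curv2.IsWeakAssPoint (Coh.structureModule X) y}),
          ((hA.primeIdealOf ⟨t.1, t.2.1⟩).asIdeal : Set Γ(X, A)) := fun b hb => by
        obtain ⟨t, ht⟩ := hc b hb
        exact Set.mem_iUnion₂.mpr ⟨t, Set.mem_univ _, ht⟩
      rcases isEmpty_or_nonempty {y : X | y ∈ A ∧ Curv2.IsWeakAssPoint (Coh.structureModule X) y} with h0 | ⟨⟨t₀⟩⟩
      · obtain ⟨t, -⟩ := hc 0 I.zero_mem
        exact h0.false t
      · obtain ⟨t, -, hle⟩ := (Ideal.subset_union_prime_finite Set.finite_univ t₀ t₀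
          (fun t _ _ _ => (hA.primeIdealOf ⟨t.1, t.2.1⟩).isPrime)).mp hsub
        exact hnot t hle
    have hbu : ∀ y (hy : y ∈ A), Curv2.IsWeakAssPoint (Coh.structureModule X) y →
        IsUnit (X.presheaf.germ A y hy b) := fun y hy hw => by
      by_contra hu
      exact hb ⟨y, hy, hw⟩ ((H29Blow.mem_primeIdealOf_iff hA ⟨y, hy⟩ b).mpr hu)
    have hbn : b ∈ nonZeroDivisors Γ(X, A) := H29Mero.mem_nzd_of_forall hA hbu
    obtain ⟨n, m, hm⟩ := H29Blow.exists_pow_smul_eq_res L (isQCoh_of_isInvertible hL) hA b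
      (L.presheaf.map (homOfLE (hI b hbI)).op e)
    have hgerm : ∀ y (hy : y ∈ A) (hw : Curv2.IsWeakAssPoint (Coh.structureModule X) y),
        L.presheaf.germ A y hy m = X.presheaf.germ A y hy (b ^ n) • L.presheaf.germ W y (hWT y hw) e := by
      intro y hy hw
      have hyb : y ∈ X.basicOpen b := (X.mem_basicOpen b y hy).mpr (hbu y hy hw)
      have h1 := congrArg (L.presheaf.germ (X.basicOpen b) y hyb) hm
      rw [L.presheaf.germ_res_apply, Mero.germ_smul, X.presheaf.germ_res_apply, L.presheaf.germ_res_apply] at h1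
      exact h1
    refine ⟨A, m, ⟨b ^ n, fun y => H29Mero.germ_mem_nzd hA (pow_mem hbn n) y.2⟩, hxA, hAV, ?_, fun y hy hw => ?_⟩
    · obtain ⟨r, hr⟩ := (hev x x (hxV x)).2 (L.presheaf.germ A x hxA m)
      refine ⟨r, ?_, fun _ => hr.symm⟩
      obtain ⟨T, hxT, r₀, rfl⟩ := X.presheaf.exists_germ_eq r
      have h3 : x ∈ T ⊓ V x := ⟨hxT, hxV x⟩
      obtain ⟨O, hxO, i, j, hO⟩ := L.presheaf.germ_eq x h3 hxA
        (X.presheaf.map (homOfLE (inf_le_left : T ⊓ V x ≤ T)).op r₀ •
          L.presheaf.map (homOfLE (inf_le_right : T ⊓ V x ≤ V x)).op (ev x)) m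
        (by rw [Mero.germ_smul, X.presheaf.germ_res_apply, L.presheaf.germ_res_apply]; exact hr)
      obtain ⟨A', hA', hxA', hA'O'⟩ := exists_isAffineOpen_mem_and_subset (U := O) (x := x) hxO
      have hA'O : A' ≤ O := hA'O'
      have hle : A' ≤ T := hA'O.trans (i.le.trans inf_le_left)
      have hnzd : X.presheaf.map (homOfLE hle).op r₀ ∈ nonZeroDivisors Γ(X, A') := by
        refine H29Mero.mem_nzd_of_forall hA' fun y hy hw => ?_
        rw [germ_res hle r₀ y hy]
        have hyA : y ∈ A := j.le (hA'O hy)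
        have h1 := congrArg (L.presheaf.germ O y (hA'O hy)) hO
        rw [L.presheaf.germ_res_apply, L.presheaf.germ_res_apply, Mero.germ_smul, X.presheaf.germ_res_apply,
          L.presheaf.germ_res_apply, hgerm y hyA hw] at h1
        have hev' := hev x y (hAV hyA)
        obtain ⟨c, hc⟩ := hev'.2 (L.presheaf.germ W y (hWT y hw) e)
        obtain ⟨c', hc'⟩ := (he ⟨y, hWT y hw⟩ hw).2 (L.presheaf.germ (V x) y (hAV hyA) (ev x))
        simp only at hc hc'
        have hcu : IsUnit c := IsUnit.of_mul_eq_one c' (hev'.1 (by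
          show (c * c') • _ = (1 : X.presheaf.stalk y) • _
          rw [one_smul, mul_comm, mul_smul, hc, hc']))
        rw [← hc, smul_smul] at h1
        rw [show X.presheaf.germ T y (hle hy) r₀ = X.presheaf.germ A y hyA (b ^ n) * c from hev'.1 h1,
          map_pow]
        exact ((hbu y hyA hw).pow n).mul hcu
      have := H29Mero.germ_mem_nzd hA' hnzd hxA'
      rwa [germ_res] at this
    · rw [hgerm y hy hw]
      refine LocalizedModule.mk_eq.mpr ⟨1, ?_⟩
      simp only [Submonoid.smul_def, OneMemClass.coe_one, one_smul]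
  choose A m b hxA hAV hreg hagree using hloc
  let f : ∀ x : (⊤ : X.Opens), Mero.MStalk L x.1 := fun x =>
    LocalizedModule.mk (L.presheaf.germ (A x.1) x.1 (hxA x.1) (m x.1)) (Mero.regGerm ⟨x.1, hxA x.1⟩ (b x.1))
  have hpred : (Mero.mLoc L).pred f := by
    rintro ⟨x, -⟩
    refine ⟨A x, hxA x, homOfLE le_top, m x, b x, fun y => ?_⟩
    dsimp only [f]
    let U : X.Opens := A y.1 ⊓ A x
    have key := H29Mero.mk_eq_of_agree L (hev x) (W := U) (inf_le_right.trans (hAV x))
      (L.presheaf.map (homOfLE (inf_le_left : U ≤ A y.1)).op (m y.1))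
      (L.presheaf.map (homOfLE (inf_le_right : U ≤ A x)).op (m x))
      ⟨_, Mero.regSub_res (homOfLE (inf_le_left : U ≤ A y.1)) (b y.1).2⟩
      ⟨_, Mero.regSub_res (homOfLE (inf_le_right : U ≤ A x)) (b x).2⟩
      (fun z hz hw => by
        refine Eq.trans ?_ ((hagree y.1 z hz.1 hw).trans ((hagree x z hz.2 hw).symm.trans ?_))
        · exact Mero.mk_congr (L.presheaf.germ_res_apply _ _ _ _) (X.presheaf.germ_res_apply _ _ _ _)
        · exact (Mero.mk_congr (L.presheaf.germ_res_apply _ _ _ _) (X.presheaf.germ_res_apply _ _ _ _)).symm)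
      y.1 ⟨hxA y.1, y.2⟩
    refine Eq.trans ?_ (key.trans ?_)
    · exact (Mero.mk_congr (L.presheaf.germ_res_apply _ _ _ _) (X.presheaf.germ_res_apply _ _ _ _)).symm
    · exact Mero.mk_congr (L.presheaf.germ_res_apply _ _ _ _) (X.presheaf.germ_res_apply _ _ _ _)
  refine ⟨⟨f, hpred⟩, fun x q hq => ?_⟩
  obtain ⟨r, hr, hmr⟩ := hreg x
  change q • f ⟨x, trivial⟩ = 0 at hq
  dsimp only [f] at hq
  have e1 : (LocalizedModule.mk (L.presheaf.germ (A x) x (hxA x) (m x)) (Mero.regGerm ⟨x, hxA x⟩ (b x)) :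
      Mero.MStalk L x) = (LocalizedModule.mk r (Mero.regGerm ⟨x, hxA x⟩ (b x)) : Mero.KStalk X x) •
      LocalizedModule.mk (L.presheaf.germ (V x) x (hxV x) (ev x)) 1 :=
    (Mero.mk_congr (hmr (hxV x)) (congrArg Subtype.val (mul_one (Mero.regGerm ⟨x, hxA x⟩ (b x)))).symm).trans
      (LocalizedModule.mk_smul_mk _ _ _ _).symm
  rw [e1, ← mul_smul] at hq
  have h0 := eq_zero_of_smul_mk L (hev x x (hxV x)).1 hq
  have h1 : q * aK x r = 0 := by
    rw [← mk_mul x r (Mero.regGerm ⟨x, hxA x⟩ (b x)), ← mul_assoc, h0, zero_mul]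
  rw [← regStalk_eq_nzd x] at hr
  exact (IsLocalization.map_units (Mero.KStalk X x) ⟨r, hr⟩).mul_left_eq_zero.mp h1

end Groth.Agent.H28Mero
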