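import Groth.Agent.H28Mero.Points

/-!
# Invertible submodules of the sheaf of meromorphic functions
-/

set_option autoImplicit false

universe u

open CategoryTheory AlgebraicGeometry TopologicalSpace Opposite

namespace Groth.Agent.H28Mero

variable {X : Scheme.{u}}

/-- The sections below a generator are its multiples. -/
lemma exists_coeff {L : X.Modules} {U : X.Opens} {e : Γ(L, U)} (he : IsGen L e) {V : X.Opens} (hV : V ≤ U)
    (j : Γ(L, V)) : ∃ r : Γ(X, V), j = r • L.presheaf.map (homOfLE hV).op e := by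
  have hloc : ∀ y : V, ∃ (O : X.Opens) (hOV : O ≤ V) (_ : y.1 ∈ O) (r : Γ(X, O)),
      ∀ z (hz : z ∈ O), X.presheaf.germ O z hz r • L.presheaf.germ U z (hV (hOV hz)) e =
        L.presheaf.germ V z (hOV hz) j := by
    intro y
    obtain ⟨c, hc⟩ := (he y.1 (hV y.2)).2 (L.presheaf.germ V y.1 y.2 j)
    obtain ⟨T, hyT, r₀, rfl⟩ := X.presheaf.exists_germ_eq c
    have h3 : y.1 ∈ T ⊓ V := ⟨hyT, y.2⟩
    obtain ⟨O, hyO, i₁, i₂, hO⟩ := L.presheaf.germ_eq y.1 h3 y.2
      (X.presheaf.map (homOfLE (inf_le_left : T ⊓ V ≤ T)).op r₀ •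
        L.presheaf.map (homOfLE ((inf_le_right : T ⊓ V ≤ V).trans hV)).op e) j
      (by rw [Mero.germ_smul, X.presheaf.germ_res_apply, L.presheaf.germ_res_apply]; exact hc)
    refine ⟨O, i₂.le, hyO, X.presheaf.map (homOfLE (i₁.le.trans inf_le_left)).op r₀, fun z hz => ?_⟩
    have h1 := congrArg (L.presheaf.germ O z hz) hO
    rw [L.presheaf.germ_res_apply, L.presheaf.germ_res_apply, Mero.germ_smul, X.presheaf.germ_res_apply,
      L.presheaf.germ_res_apply] at h1
    rw [X.presheaf.germ_res_apply]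
    exact h1
  choose O hOV hyO r hr using hloc
  obtain ⟨t, ht, -⟩ := X.sheaf.existsUnique_gluing' O V (fun y => homOfLE (hOV y))
    (fun y hy => Opens.mem_iSup.mpr ⟨⟨y, hy⟩, hyO _⟩) r (fun i k => section_ext fun z hz => by
      erw [germ_res, germ_res]
      exact (he z (hV (hOV i hz.1))).1 ((hr i z hz.1).trans (hr k z hz.2).symm))
  refine ⟨(show Γ(X, V) from t), TopCat.Presheaf.section_ext ⟨L.presheaf, L.isSheaf⟩ V _ _ fun z hz => ?_⟩
  have h2 := congrArg (X.presheaf.germ (O ⟨z, hz⟩) z (hyO ⟨z, hz⟩)) (ht ⟨z, hz⟩)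
  erw [germ_res] at h2
  show L.presheaf.germ V z hz j = L.presheaf.germ V z hz ((show Γ(X, V) from t) • _)
  rw [Mero.germ_smul, L.presheaf.germ_res_apply]
  erw [h2]
  exact (hr ⟨z, hz⟩ z (hyO ⟨z, hz⟩)).symm

variable (J : X.Modules) (ι : J ⟶ Mero.kmod X) [Mono ι]

theorem isInvertible_iff_locally :
    PicF.IsInvertible J ↔ ∀ x : ↥X, ∃ (U : X.Opens) (_ : x ∈ U) (f : (Γ(Mero.kmod X, U))ˣ),
      ∀ (V : X.Opens) (hV : V ≤ U),
        Set.range ⇑(ι.val.app (Opposite.op V)) =
          {t : Γ(Mero.kmod X, V) | ∃ r : Γ(X, V),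
            t = Mero.toK X V r * (Mero.kmod X).presheaf.map (homOfLE hV).op (f : Γ(Mero.kmod X, U))} := by
  have hinj : ∀ V, Function.Injective (ι.app V) := app_injective_of_mono ι
  have hnat : ∀ {U V : X.Opens} (h : V ≤ U) (j : Γ(J, U)),
      ι.app V (J.presheaf.map (homOfLE h).op j) = (Mero.kmod X).presheaf.map (homOfLE h).op (ι.app U j) :=
    fun h j => congr($(ι.mapPresheaf.naturality (homOfLE h).op) j)
  constructor
  · intro hJ x
    obtain ⟨V₀, e, hxV₀, he⟩ := H29Mero.exists_generator hJ x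
    let g : Γ(Mero.kmod X, V₀) := ι.app V₀ e
    obtain ⟨U, hUV, hxU, a, b, hab⟩ := exists_local_frac g ⟨x, hxV₀⟩
    have ha : a ∈ Mero.regSub X U := by
      intro y
      refine mem_nonZeroDivisors_iff_right.mpr fun c hc => ?_
      obtain ⟨T, hyT, c₀, rfl⟩ := X.presheaf.exists_germ_eq c
      have h3 : y.1 ∈ T ⊓ U := ⟨hyT, y.2⟩
      have h4 : X.presheaf.germ (T ⊓ U) y.1 h3 (X.presheaf.map (homOfLE inf_le_left).op c₀ *
          X.presheaf.map (homOfLE inf_le_right).op a) = X.presheaf.germ (T ⊓ U) y.1 h3 0 := by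
        rw [map_mul, germ_res, germ_res, map_zero]; exact hc
      obtain ⟨O, hO1, hO2, hyO, hO⟩ := exists_nhd_germ_eq h3 h3 _ _ h4
      have hOU : O ≤ U := hO1.trans inf_le_right
      have hOT : O ≤ T := hO1.trans inf_le_left
      have h5 : ι.app O (X.presheaf.map (homOfLE hOT).op c₀ • J.presheaf.map (homOfLE (hOU.trans hUV)).op e) = 0 := by
        rw [Scheme.Modules.Hom.app_smul, hnat]
        refine Subtype.ext (funext fun z => ?_)
        refine (Algebra.smul_def _ _).trans ?_
        refine (regular_isUnit b z.1 (hOU z.2)).mul_right_cancel ?_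
        show aK z.1 _ * g.1 ⟨z.1, _⟩ * _ = 0 * _
        rw [zero_mul, mul_assoc]
        refine (congrArg (aK z.1 _ * ·) (hab z.1 (hOU z.2))).trans ?_
        have h6 := hO z.1 z.2
        rw [map_mul, germ_res, germ_res, map_zero] at h6
        rw [← map_mul, germ_res hOT c₀ z.1 z.2]
        exact (congrArg (aK z.1) h6).trans (map_zero _)
      have h7 := congrArg (J.presheaf.germ O y.1 hyO) (hinj O (h5.trans (map_zero _).symm))
      rw [Mero.germ_smul, J.presheaf.germ_res_apply, X.presheaf.germ_res_apply, map_zero] at h7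
      exact (he y.1 (hUV y.2)).1 (h7.trans (zero_smul _ _).symm)
    let S : Mero.regSub X U := ⟨a, ha⟩
    let gU : Γ(Mero.kmod X, U) := (Mero.kmod X).presheaf.map (homOfLE hUV).op g
    let gi : Γ(Mero.kmod X, U) := ⟨fun y => LocalizedModule.mk (X.presheaf.germ U y.1 y.2 b.1) (Mero.regGerm y S),
      fun y => ⟨U, y.2, 𝟙 _, b.1, S, fun _ => rfl⟩⟩
    have hfg : gU * gi = 1 := Subtype.ext (funext fun y => by
      refine (regular_isUnit S y.1 y.2).mul_right_cancel ?_
      show g.1 ⟨y.1, hUV y.2⟩ * gi.1 y * aK y.1 _ = 1 * _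
      rw [one_mul, mul_assoc]
      refine (congrArg (g.1 ⟨y.1, hUV y.2⟩ * ·) (mk_mul y.1 _ (Mero.regGerm y S))).trans ?_
      exact hab y.1 y.2)
    refine ⟨U, hxU, Units.mkOfMulEqOne gU gi hfg, fun V hV => ?_⟩
    have hgen : IsGen J (J.presheaf.map (homOfLE hUV).op e) := fun y hy => by
      simp only [J.presheaf.germ_res_apply]
      exact he y (hUV hy)
    ext t
    constructor
    · rintro ⟨j, rfl⟩
      obtain ⟨r, hr⟩ := exists_coeff hgen hV j
      refine ⟨r, ?_⟩
      show ι.app V j = _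
      rw [hr, Scheme.Modules.Hom.app_smul, hnat, hnat]
      exact Subtype.ext (funext fun z => (Algebra.smul_def _ _).trans (congrArg (· * _) (toK_val r z).symm))
    · rintro ⟨r, rfl⟩
      refine ⟨r • J.presheaf.map (homOfLE hV).op (J.presheaf.map (homOfLE hUV).op e), ?_⟩
      show ι.app V _ = _
      rw [Scheme.Modules.Hom.app_smul, hnat, hnat]
      exact Subtype.ext (funext fun z => (Algebra.smul_def _ _).trans (congrArg (· * _) (toK_val r z).symm))
  · intro h x
    obtain ⟨U, hxU, f, hf⟩ := h x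
    have hmem : (f : Γ(Mero.kmod X, U)) ∈ Set.range ⇑(ι.val.app (Opposite.op U)) := by
      rw [hf U le_rfl]
      refine ⟨1, ?_⟩
      rw [map_one, one_mul]
      rfl
    obtain ⟨e, he⟩ := hmem
    change ι.app U e = (f : Γ(Mero.kmod X, U)) at he
    let s : Γ(J.restrict U.ι, ⊤) :=
      (J.restrictAppIso U.ι ⊤).inv (J.presheaf.map (homOfLE (U.ι_image_le ⊤)).op e)
    let φ := H29Fitt.homSec (J.restrict U.ι) s
    have happ : ∀ (W : U.toScheme.Opens) (r : Γ(U.toScheme, W)),
        ι.app (U.ι ''ᵁ W) ((J.restrictAppIso U.ι W).hom (φ.app W r)) =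
          (show Γ(X, U.ι ''ᵁ W) from (U.ι.appIso W).inv r) •
            (Mero.kmod X).presheaf.map (homOfLE (U.ι_image_le W)).op (f : Γ(Mero.kmod X, U)) := by
      intro W r
      have e1 : (J.restrictAppIso U.ι W).hom (φ.app W r) =
          (show Γ(X, U.ι ''ᵁ W) from (U.ι.appIso W).inv r) •
            J.presheaf.map (homOfLE (U.ι_image_le W)).op e := by
        have e2 : (J.restrictAppIso U.ι W).hom (φ.app W r) = (show Γ(X, U.ι ''ᵁ W) from (U.ι.appIso W).inv r) •
            J.presheaf.map (homOfLE (Scheme.Hom.image_mono U.ι (le_top : W ≤ ⊤))).op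
              (J.presheaf.map (homOfLE (U.ι_image_le ⊤)).op e) := rfl
        rw [e2]
        congr 1
        exact congr($((J.presheaf.map_comp (homOfLE (U.ι_image_le ⊤)).op
          (homOfLE (Scheme.Hom.image_mono U.ι (le_top : W ≤ ⊤))).op).symm) e)
      rw [e1, Scheme.Modules.Hom.app_smul, hnat, he]
    have hiso : ∀ W : U.toScheme.Opens, Function.Bijective (φ.app W) := by
      intro W
      refine ⟨fun r r' h => (ConcreteCategory.bijective_of_isIso (U.ι.appIso W).inv).1 (section_ext fun y hy => ?_),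
        fun t => ?_⟩
      · have h1 := happ W r
        rw [h, happ W r'] at h1
        have h2 := congrFun (congrArg Subtype.val h1) ⟨y, hy⟩
        refine aK_injective y ((uval f ⟨y, U.ι_image_le W hy⟩).isUnit.mul_right_cancel ?_)
        exact (Algebra.smul_def _ _).symm.trans (h2.symm.trans (Algebra.smul_def _ _))
      · have hr : ι.app (U.ι ''ᵁ W) ((J.restrictAppIso U.ι W).hom t) ∈
            Set.range ⇑(ι.val.app (Opposite.op (U.ι ''ᵁ W))) := ⟨_, rfl⟩
        rw [hf (U.ι ''ᵁ W) (U.ι_image_le W)] at hr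
        obtain ⟨r, hr⟩ := hr
        refine ⟨(U.ι.appIso W).hom r, (ConcreteCategory.bijective_of_isIso
          (J.restrictAppIso U.ι W).hom).1 (hinj _ ?_)⟩
        rw [happ, hr, ← ConcreteCategory.comp_apply (U.ι.appIso W).hom, Iso.hom_inv_id,
          ConcreteCategory.id_apply]
        exact Subtype.ext (funext fun z => (Algebra.smul_def _ _).trans (congrArg (· * _) (toK_val r z).symm))
    have : IsIso φ := by
      rw [Scheme.Modules.Hom.isIso_iff_isIso_app]
      intro W
      rw [ConcreteCategory.isIso_iff_bijective]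
      exact hiso W
    exact ⟨U, hxU, ⟨(asIso φ).symm⟩⟩

end Groth.Agent.H28Mero
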