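import Groth.Agent.H28Mero.Gen
import Groth.Agent.H28Mero.SubInv
import Groth.Prelude.Def_PicF2
import Groth.Prelude.Def_SecTwist

/-!
# The zero scheme of a regular section of an invertible module and its divisor
-/

set_option autoImplicit false

universe u

open CategoryTheory AlgebraicGeometry TopologicalSpace Opposite

namespace Groth.Agent.H28Mero

variable {X : Scheme.{u}}

/-- Over an affine open, membership in a principal ideal is checked at the germs. -/
lemma mem_span_of_germ {V : X.Opens} (hV : IsAffineOpen V) (a c : Γ(X, V))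
    (h : ∀ (y : X) (hy : y ∈ V), X.presheaf.germ V y hy a ∈ Ideal.span {X.presheaf.germ V y hy c}) :
    a ∈ Ideal.span {c} := by
  let J : Ideal Γ(X, V) := Submodule.colon (Ideal.span {c}) {a}
  have hJ : ∀ t, t ∈ J ↔ t * a ∈ Ideal.span {c} := fun t => by rw [Submodule.mem_colon_singleton, smul_eq_mul]
  by_contra hne
  have hJne : J ≠ ⊤ := fun hJ' => hne (by
    have h1 := (hJ 1).mp (hJ' ▸ Submodule.mem_top)
    rwa [one_mul] at h1)
  obtain ⟨P, hP, hJP⟩ := Ideal.exists_le_maximal J hJne
  obtain ⟨y, hy⟩ := H29Blow.exists_primeIdealOf_eq hV ⟨P, hP.isPrime⟩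
  have hPy : (hV.primeIdealOf y).asIdeal = P := congrArg PrimeSpectrum.asIdeal hy
  letI := TopCat.Presheaf.algebra_section_stalk X.presheaf y
  haveI := hV.isLocalization_stalk y
  have h1 : algebraMap Γ(X, V) (X.presheaf.stalk y.1) a ∈
      Ideal.map (algebraMap Γ(X, V) (X.presheaf.stalk y.1)) (Ideal.span {c}) := by
    rw [Ideal.map_span, Set.image_singleton]; exact h y.1 y.2
  obtain ⟨t, ht, htm⟩ := (IsLocalization.algebraMap_mem_map_algebraMap_iff
    (hV.primeIdealOf y).asIdeal.primeCompl _ _ _).mp h1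
  exact ht (hPy.symm ▸ hJP ((hJ t).mpr htm))

/-- A family of ideals of the local rings, locally given by one function. -/
abbrev IsLocPrincipal (G : ∀ x : X, Ideal (X.presheaf.stalk x)) : Prop :=
  ∀ (O : X.Opens) (x : X), x ∈ O → ∃ V : X.Opens, IsAffineOpen V ∧ x ∈ V ∧ V ≤ O ∧
    ∃ c : Γ(X, V), ∀ (y : X) (hy : y ∈ V), G y = Ideal.span {X.presheaf.germ V y hy c}

/-- The functions with germs in the given ideals. -/
noncomputable def germIdeal (G : ∀ x : X, Ideal (X.presheaf.stalk x)) (V : X.Opens) : Ideal Γ(X, V) :=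
  ⨅ y : V, (G y.1).comap (X.presheaf.germ V y.1 y.2).hom

lemma mem_germIdeal {G : ∀ x : X, Ideal (X.presheaf.stalk x)} {V : X.Opens} {a : Γ(X, V)} :
    a ∈ germIdeal G V ↔ ∀ (y : X) (hy : y ∈ V), X.presheaf.germ V y hy a ∈ G y := by
  rw [germIdeal, Ideal.mem_iInf]
  exact ⟨fun h y hy => h ⟨y, hy⟩, fun h y => h y.1 y.2⟩

/-- The quasi-coherent ideal sheaf of a locally principal family. -/
noncomputable def germIdealSheaf (G : ∀ x : X, Ideal (X.presheaf.stalk x)) (hG : IsLocPrincipal G) : X.IdealSheafData :=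
  Scheme.IdealSheafData.mkOfMemSupportIff (fun V => germIdeal G V.1)
    (fun V g => by
      refine le_antisymm (Ideal.map_le_iff_le_comap.mpr fun a ha => mem_germIdeal.mpr fun y hy => ?_)
        fun a' ha' => ?_
      · show X.presheaf.germ (X.basicOpen g) y hy (X.presheaf.map (homOfLE (X.basicOpen_le g)).op a) ∈ G y
        rw [X.presheaf.germ_res_apply]
        exact mem_germIdeal.mp ha y (X.basicOpen_le g hy)
      haveI := V.2.isLocalization_basicOpen g
      obtain ⟨⟨a, ⟨_, n, rfl⟩⟩, ha⟩ := IsLocalization.surj (Submonoid.powers g) a'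
      have hag : ∀ (y : X) (hy : y ∈ X.basicOpen g), X.presheaf.germ V.1 y (X.basicOpen_le g hy) a ∈ G y := by
        intro y hy
        have h1 := congrArg (X.presheaf.germ (X.basicOpen g) y hy) ha
        rw [map_mul] at h1
        simp only [RingHom.algebraMap_toAlgebra] at h1
        erw [X.presheaf.germ_res_apply, X.presheaf.germ_res_apply] at h1
        rw [← h1]
        exact Ideal.mul_mem_right _ _ (mem_germIdeal.mp ha' y hy)
      choose W hW hyW hWV c hc using fun y : V.1 => hG V.1 y.1 y.2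
      have hN : ∀ y : V.1, ∃ N : ℕ, ∀ (z : X) (hz : z ∈ W y),
          X.presheaf.germ V.1 z (hWV y hz) (g ^ N * a) ∈ G z := by
        intro y
        let g' : Γ(X, W y) := X.presheaf.map (homOfLE (hWV y)).op g
        let a₁ : Γ(X, W y) := X.presheaf.map (homOfLE (hWV y)).op a
        let c₁ : Γ(X, X.basicOpen g') := X.presheaf.map (homOfLE (X.basicOpen_le g')).op (c y)
        haveI := (hW y).isLocalization_basicOpen g'
        have hloc : X.presheaf.map (homOfLE (X.basicOpen_le g')).op a₁ ∈ Ideal.span {c₁} := by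
          refine mem_span_of_germ ((hW y).basicOpen g') _ _ fun z hz => ?_
          have hzW := X.basicOpen_le g' hz
          simp only [a₁, c₁]
          rw [X.presheaf.germ_res_apply, X.presheaf.germ_res_apply, X.presheaf.germ_res_apply,
            ← hc y z hzW]
          refine hag z ((X.mem_basicOpen g z (hWV y hzW)).mpr ?_)
          have hu := (X.mem_basicOpen g' z hzW).mp hz
          rwa [X.presheaf.germ_res_apply] at hu
        have h2 : algebraMap Γ(X, W y) Γ(X, X.basicOpen g') a₁ ∈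
            Ideal.map (algebraMap Γ(X, W y) Γ(X, X.basicOpen g')) (Ideal.span {c y}) := by
          rw [Ideal.map_span, Set.image_singleton]; exact hloc
        obtain ⟨_, ⟨N, rfl⟩, hm⟩ := (IsLocalization.algebraMap_mem_map_algebraMap_iff
          (Submonoid.powers g') _ _ _).mp h2
        refine ⟨N, fun z hz => ?_⟩
        rw [hc y z hz]
        have h3 := Ideal.mem_map_of_mem (X.presheaf.germ (W y) z hz).hom hm
        rw [Ideal.map_span, Set.image_singleton, map_mul, map_pow] at h3
        simp only [g', a₁] at h3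
        rw [map_mul, map_pow]
        convert h3 using 3
        · exact (X.presheaf.germ_res_apply _ _ _ _).symm
        · exact (X.presheaf.germ_res_apply _ _ _ _).symm
      choose N hN using hN
      obtain ⟨t, ht⟩ := V.2.isCompact.elim_finite_subcover (fun y : V.1 => (W y : Set X)) (fun y => (W y).2)
        (fun z hz => Set.mem_iUnion.mpr ⟨⟨z, hz⟩, hyW _⟩)
      have hmem : g ^ t.sup N * a ∈ germIdeal G V.1 := mem_germIdeal.mpr fun z hz => by
        obtain ⟨y, hy, hzy⟩ := Set.mem_iUnion₂.mp (ht hz)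
        obtain ⟨d, hd⟩ := Nat.exists_eq_add_of_le (Finset.le_sup (f := N) hy)
        rw [hd, add_comm, pow_add, mul_assoc, map_mul]
        exact Ideal.mul_mem_left _ _ (hN y z hzy)
      have hu : IsUnit (algebraMap Γ(X, V.1) Γ(X, X.basicOpen g) (g ^ (t.sup N + n))) :=
        IsLocalization.map_units _ (⟨g ^ (t.sup N + n), _, rfl⟩ : Submonoid.powers g)
      refine (Ideal.mul_unit_mem_iff_mem _ hu).mp ?_
      rw [pow_add, map_mul, mul_comm (algebraMap _ _ (g ^ t.sup N)), ← mul_assoc, ha, ← map_mul,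
        mul_comm]
      exact Ideal.mem_map_of_mem _ hmem)
    {x | G x ≠ ⊤}
    (fun V x hx => by
      rw [Scheme.mem_zeroLocus_iff]
      constructor
      · intro hne a ha hxa
        exact hne (Ideal.eq_top_of_isUnit_mem _ (mem_germIdeal.mp ha x hx)
          ((X.mem_basicOpen a x hx).mp hxa))
      · intro h htop
        obtain ⟨W, hW, hxW, hWV, c, hc⟩ := hG V.1 x hx
        have hcu : IsUnit (X.presheaf.germ W x hxW c) := by
          rw [← Ideal.span_singleton_eq_top, ← hc x hxW]; exact htop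
        obtain ⟨g, hgD, hxg⟩ := V.2.exists_basicOpen_le (V := X.basicOpen c)
          ⟨x, (X.mem_basicOpen c x hxW).mpr hcu⟩ hx
        have htop' : ∀ z, z ∈ X.basicOpen g → G z = ⊤ := fun z hz => by
          rw [hc z (X.basicOpen_le c (hgD hz)), Ideal.span_singleton_eq_top]
          exact (X.mem_basicOpen c z _).mp (hgD hz)
        choose W' hW' hyW' hWV' c' hc' using fun y : V.1 => hG V.1 y.1 y.2
        have hN : ∀ y : V.1, ∃ N : ℕ, ∀ (z : X) (hz : z ∈ W' y),
            X.presheaf.germ V.1 z (hWV' y hz) (g ^ N) ∈ G z := by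
          intro y
          let g' : Γ(X, W' y) := X.presheaf.map (homOfLE (hWV' y)).op g
          haveI := (hW' y).isLocalization_basicOpen g'
          have hloc : (1 : Γ(X, X.basicOpen g')) ∈
              Ideal.span {X.presheaf.map (homOfLE (X.basicOpen_le g')).op (c' y)} := by
            refine mem_span_of_germ ((hW' y).basicOpen g') _ _ fun z hz => ?_
            have hzW := X.basicOpen_le g' hz
            rw [X.presheaf.germ_res_apply, ← hc' y z hzW, htop' z]
            · exact Submodule.mem_top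
            refine (X.mem_basicOpen g z (hWV' y hzW)).mpr ?_
            have hu := (X.mem_basicOpen g' z hzW).mp hz
            rwa [X.presheaf.germ_res_apply] at hu
          have h2 : algebraMap Γ(X, W' y) Γ(X, X.basicOpen g') 1 ∈
              Ideal.map (algebraMap Γ(X, W' y) Γ(X, X.basicOpen g')) (Ideal.span {c' y}) := by
            rw [Ideal.map_span, Set.image_singleton, map_one]; exact hloc
          obtain ⟨_, ⟨N, rfl⟩, hm⟩ := (IsLocalization.algebraMap_mem_map_algebraMap_iff
            (Submonoid.powers g') _ _ _).mp h2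
          refine ⟨N, fun z hz => ?_⟩
          rw [hc' y z hz]
          have h3 := Ideal.mem_map_of_mem (X.presheaf.germ (W' y) z hz).hom hm
          rw [Ideal.map_span, Set.image_singleton, mul_one, map_pow] at h3
          simp only [g'] at h3
          rw [map_pow]
          convert h3 using 3
          exact (X.presheaf.germ_res_apply _ _ _ _).symm
        choose N hN using hN
        obtain ⟨t, ht⟩ := V.2.isCompact.elim_finite_subcover (fun y : V.1 => (W' y : Set X))
          (fun y => (W' y).2) (fun z hz => Set.mem_iUnion.mpr ⟨⟨z, hz⟩, hyW' _⟩)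
        have hmem : g ^ t.sup N ∈ germIdeal G V.1 := mem_germIdeal.mpr fun z hz => by
          obtain ⟨y, hy, hzy⟩ := Set.mem_iUnion₂.mp (ht hz)
          obtain ⟨d, hd⟩ := Nat.exists_eq_add_of_le (Finset.le_sup (f := N) hy)
          rw [hd, add_comm, pow_add, map_mul]
          exact Ideal.mul_mem_left _ _ (hN y z hzy)
        exact h _ hmem ((X.mem_basicOpen _ x hx).mpr (by
          rw [map_pow]; exact ((X.mem_basicOpen g x hx).mp hxg).pow _)))

lemma germIdealSheaf_ideal (G : ∀ x : X, Ideal (X.presheaf.stalk x)) (hG : IsLocPrincipal G) (V : X.affineOpens) :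
    (germIdealSheaf G hG).ideal V = germIdeal G V.1 := rfl

lemma germIdeal_eq_span {G : ∀ x : X, Ideal (X.presheaf.stalk x)} {V : X.Opens} (hV : IsAffineOpen V)
    (c : Γ(X, V)) (hc : ∀ (y : X) (hy : y ∈ V), G y = Ideal.span {X.presheaf.germ V y hy c}) :
    germIdeal G V = Ideal.span {c} := by
  refine le_antisymm (fun a ha => mem_span_of_germ hV a c fun y hy => hc y hy ▸ mem_germIdeal.mp ha y hy) ?_
  rw [Ideal.span_le, Set.singleton_subset_iff]
  exact mem_germIdeal.mpr fun y hy => hc y hy ▸ Ideal.mem_span_singleton_self _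

/-- The sections below a regular section, when their germs are multiples of it. -/
lemma exists_coeff_of_germ {L : X.Modules} {V : X.Opens} (e : Γ(L, V))
    (he : ∀ (y : X) (hy : y ∈ V), Function.Injective fun r : X.presheaf.stalk y => r • L.presheaf.germ V y hy e)
    (j : Γ(L, V))
    (hj : ∀ (y : X) (hy : y ∈ V), ∃ r : X.presheaf.stalk y,
      r • L.presheaf.germ V y hy e = L.presheaf.germ V y hy j) :
    ∃ r : Γ(X, V), j = r • e := by
  have hloc : ∀ y : V, ∃ (O : X.Opens) (hOV : O ≤ V) (_ : y.1 ∈ O) (r : Γ(X, O)),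
      ∀ z (hz : z ∈ O), X.presheaf.germ O z hz r • L.presheaf.germ V z (hOV hz) e =
        L.presheaf.germ V z (hOV hz) j := by
    intro y
    obtain ⟨c, hc⟩ := hj y.1 y.2
    obtain ⟨T, hyT, r₀, rfl⟩ := X.presheaf.exists_germ_eq c
    have h3 : y.1 ∈ T ⊓ V := ⟨hyT, y.2⟩
    obtain ⟨O, hyO, i₁, i₂, hO⟩ := L.presheaf.germ_eq y.1 h3 y.2
      (X.presheaf.map (homOfLE (inf_le_left : T ⊓ V ≤ T)).op r₀ •
        L.presheaf.map (homOfLE (inf_le_right : T ⊓ V ≤ V)).op e) j
      (by rw [Mero.germ_smul, X.presheaf.germ_res_apply, L.presheaf.germ_res_apply]; exact hc)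
    refine ⟨O, i₂.le, hyO, X.presheaf.map (homOfLE (i₁.le.trans inf_le_left)).op r₀, fun z hz => ?_⟩
    have h1 := congrArg (L.presheaf.germ O z hz) hO
    rw [L.presheaf.germ_res_apply, L.presheaf.germ_res_apply, Mero.germ_smul, X.presheaf.germ_res_apply,
      L.presheaf.germ_res_apply] at h1
    rw [X.presheaf.germ_res_apply]
    exact h1
  choose O hOV hyO r hr using hloc
  obtain ⟨t, ht, -⟩ := X.sheaf.existsUnique_gluing' O V (fun y => homOfLE (hOV y))
    (fun y hy => Opens.mem_iSup.mpr ⟨⟨y, hy⟩, hyO _⟩) r (fun i k => section_ext fun z hz => by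
      erw [germ_res, germ_res]
      exact he z (hOV i hz.1) ((hr i z hz.1).trans (hr k z hz.2).symm))
  refine ⟨(show Γ(X, V) from t), TopCat.Presheaf.section_ext ⟨L.presheaf, L.isSheaf⟩ V _ _ fun z hz => ?_⟩
  have h2 := congrArg (X.presheaf.germ (O ⟨z, hz⟩) z (hyO ⟨z, hz⟩)) (ht ⟨z, hz⟩)
  erw [germ_res] at h2
  show L.presheaf.germ V z hz j = L.presheaf.germ V z hz ((show Γ(X, V) from t) • e)
  rw [Mero.germ_smul]
  erw [h2]
  exact (hr ⟨z, hz⟩ z (hyO ⟨z, hz⟩)).symm

variable (L : X.Modules) (s : Coh.structureModule X ⟶ L)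

/-- The germ of a global section given as a morphism. -/
noncomputable abbrev sGerm (x : X) : L.presheaf.stalk x :=
  L.presheaf.germ ⊤ x trivial (SecTwist.val s ⊤ : Γ(L, ⊤))

lemma germ_val (U : X.Opens) (x : X) (hx : x ∈ U) :
    L.presheaf.germ U x hx (SecTwist.val s U : Γ(L, U)) = sGerm L s x := by
  refine Eq.trans (congrArg (L.presheaf.germ U x hx) ?_) (L.presheaf.germ_res_apply (homOfLE le_top) x hx _)
  exact (SecTwist.map_val s (homOfLE (le_top : U ≤ ⊤))).symm

/-- A section is regular if its germs are not torsion. -/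
abbrev IsRegularSection : Prop := ∀ x : X, Function.Injective fun r : X.presheaf.stalk x => r • sGerm L s x

/-- The ideal of the functions `a` with `a L_x ⊆ O_x s_x`. -/
noncomputable def zeroGerm (x : X) : Ideal (X.presheaf.stalk x) :=
  Submodule.colon (Submodule.span (X.presheaf.stalk x) {sGerm L s x}) (⊤ : Submodule (X.presheaf.stalk x) (L.presheaf.stalk x))

lemma zeroGerm_eq_span {x : X} {ε : L.presheaf.stalk x}
    (hε : Function.Bijective fun r : X.presheaf.stalk x => r • ε) {c : X.presheaf.stalk x}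
    (hc : sGerm L s x = c • ε) : zeroGerm L s x = Ideal.span {c} := by
  ext a
  rw [zeroGerm, Submodule.mem_colon, Ideal.mem_span_singleton]
  constructor
  · intro h
    obtain ⟨b, hb⟩ := Submodule.mem_span_singleton.mp (h ε trivial)
    rw [hc, smul_smul] at hb
    exact ⟨b, (hε.1 hb).symm.trans (mul_comm _ _)⟩
  · rintro ⟨b, rfl⟩ m -
    obtain ⟨r, hr⟩ := hε.2 m
    refine Submodule.mem_span_singleton.mpr ⟨b * r, ?_⟩
    rw [hc, ← hr, smul_smul, smul_smul]
    ring_nf

/-- Near every point, a section is a function times a generator. -/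
lemma exists_section_coeff (hL : PicF.IsInvertible L) (O : X.Opens) (x : X) (hx : x ∈ O) :
    ∃ V : X.Opens, IsAffineOpen V ∧ x ∈ V ∧ V ≤ O ∧ ∃ (e : Γ(L, V)) (c : Γ(X, V)), IsGen L e ∧
      ∀ (y : X) (hy : y ∈ V), sGerm L s y = X.presheaf.germ V y hy c • L.presheaf.germ V y hy e := by
  obtain ⟨U, e, hxU, he⟩ := H29Mero.exists_generator hL x
  obtain ⟨V, hV, hxV, hVU'⟩ := exists_isAffineOpen_mem_and_subset (U := O ⊓ U) (x := x) ⟨hx, hxU⟩
  have hVU : V ≤ U := fun y hy => (hVU' hy).2
  have hgen : IsGen L (L.presheaf.map (homOfLE hVU).op e) := fun y hy => by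
    simp only [L.presheaf.germ_res_apply]; exact he y (hVU hy)
  obtain ⟨c, hc⟩ := exists_coeff hgen le_rfl (SecTwist.val s V : Γ(L, V))
  refine ⟨V, hV, hxV, fun y hy => (hVU' hy).1, _, c, hgen, fun y hy => ?_⟩
  have h1 := congrArg (L.presheaf.germ V y hy) hc
  rw [Mero.germ_smul, L.presheaf.germ_res_apply, germ_val] at h1
  exact h1

lemma isLocPrincipal_zeroGerm (hL : PicF.IsInvertible L) : IsLocPrincipal (zeroGerm L s) := by
  intro O x hx
  obtain ⟨V, hV, hxV, hVO, e, c, he, hc⟩ := exists_section_coeff L s hL O x hx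
  exact ⟨V, hV, hxV, hVO, c, fun y hy => zeroGerm_eq_span L s (he y hy) (hc y hy)⟩

/-- The zero scheme of a regular section. -/
theorem zeroScheme_ideal (hL : PicF.IsInvertible L) (hs : IsRegularSection L s) (V : X.affineOpens) :
    (PicF2.zeroScheme L s).ideal V = germIdeal (zeroGerm L s) V.1 := by
  apply le_antisymm
  · intro a ha
    have ha' := Scheme.IdealSheafData.ideal_ofIdeals_le _ V ha
    refine mem_germIdeal.mpr fun y hy => ?_
    rw [zeroGerm, Submodule.mem_colon]
    intro m _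
    obtain ⟨t, v, ht⟩ := H29Blow.exists_germ_eq_smul L (isQCoh_of_isInvertible hL) V.2 ⟨y, hy⟩ m
    obtain ⟨b, hb⟩ := ha' t
    let b' : Γ(X, V.1) := b
    have hb' : (a • t : Γ(L, V.1)) = b' • (SecTwist.val s V.1 : Γ(L, V.1)) := hb
    have h1 := congrArg (L.presheaf.germ V.1 y hy) hb'
    rw [Mero.germ_smul, ht] at h1
    erw [Mero.germ_smul, germ_val] at h1
    refine Submodule.mem_span_singleton.mpr ⟨↑v⁻¹ * X.presheaf.germ V.1 y hy b', ?_⟩
    rw [mul_smul, ← h1, smul_smul, smul_smul, mul_right_comm, Units.inv_mul, one_mul]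
  · have h : germIdealSheaf (zeroGerm L s) (isLocPrincipal_zeroGerm L s hL) ≤ PicF2.zeroScheme L s :=
      Scheme.IdealSheafData.le_ofIdeals_iff.mpr fun W a ha m => by
        obtain ⟨b, hb⟩ := exists_coeff_of_germ (SecTwist.val s W.1 : Γ(L, W.1))
          (fun y hy => by rw [germ_val]; exact hs y)
          ((show Γ(X, W.1) from a) • (show Γ(L, W.1) from m))
          (fun y hy => by
            have h1 := Submodule.mem_colon.mp (mem_germIdeal.mp ha y hy)
              (L.presheaf.germ W.1 y hy (show Γ(L, W.1) from m)) trivial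
            obtain ⟨r, hr⟩ := Submodule.mem_span_singleton.mp h1
            exact ⟨r, by rw [germ_val, Mero.germ_smul]; exact hr⟩)
        exact ⟨b, hb⟩
    exact h V

/-- A regular section of an invertible module is a regular meromorphic section. -/
theorem exists_divisor_zeroScheme (hL : PicF.IsInvertible L) (hs : IsRegularSection L s) :
    ∃ D : Mero.Divisor X, Mero.IsDivOfIdeal D (PicF2.zeroScheme L s) ∧
      (∀ (y : X) (ε : L.presheaf.stalk y) (g : (Mero.KStalk X y)ˣ),
        Submodule.span (X.presheaf.stalk y) {ε} = ⊤ →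
          (LocalizedModule.mk (sGerm L s y) 1 : Mero.MStalk L y) = (g : Mero.KStalk X y) • LocalizedModule.mk ε 1 →
            D.1 y = QuotientGroup.mk g) ∧
      ∃ e : L ≅ Mero.divMod D,
        (Mero.divModι D).app ⊤ (e.hom.app ⊤ (SecTwist.val s ⊤)) = 1 := by
  let σ : Γ(Mero.merMod L, ⊤) := (Mero.toMer L).app ⊤ (SecTwist.val s ⊤ : Γ(L, ⊤))
  have hσ : ∀ y : X, σ.1 ⟨y, trivial⟩ = (LocalizedModule.mk (sGerm L s y) 1 : Mero.MStalk L y) := fun y => rfl
  have hreg : Mero.IsRegularMero L σ := fun y q hq => eq_zero_of_smul_mk L (hs y) hq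
  obtain ⟨D, hD, e, he⟩ := exists_divisor_iso_spec L σ hreg hL
  refine ⟨D, fun x => ?_, fun y ε g h1 h2 => hD y ε g h1 h2, e, ?_⟩
  · obtain ⟨V, hV, hxV, -, ε, c, hgen, hc⟩ := exists_section_coeff L s hL ⊤ x trivial
    have hcreg : c ∈ Mero.regSub X V := fun y => mem_nonZeroDivisors_iff_right.mpr fun r hr => by
      refine hs y.1 ?_
      show r • sGerm L s y.1 = (0 : X.presheaf.stalk y.1) • sGerm L s y.1
      rw [hc y.1 y.2, smul_smul, hr, zero_smul, zero_smul]
    refine ⟨⟨V, hV⟩, hxV, c, hcreg, ?_, fun y => ?_⟩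
    · rw [zeroScheme_ideal L s hL hs ⟨V, hV⟩]
      exact germIdeal_eq_span hV c fun y hy => zeroGerm_eq_span L s (hgen y hy) (hc y hy)
    · refine hD y.1 (L.presheaf.germ V y.1 y.2 ε) _ ?_ ?_
      · rw [Submodule.span_singleton_eq_top_iff]
        exact (hgen y.1 y.2).2
      · show σ.1 ⟨y.1, trivial⟩ = _
        rw [hσ, hc y.1 y.2, ← aK_smul_mk]
        rfl
  · refine Subtype.ext (funext fun y => ?_)
    have h1 := he ⊤ (SecTwist.val s ⊤ : Γ(L, ⊤)) y
    show (e.hom.app ⊤ (SecTwist.val s ⊤ : Γ(L, ⊤))).1 y = 1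
    refine sub_eq_zero.mp (hreg y.1 _ ?_)
    rw [sub_smul, one_smul, h1]
    exact sub_self _

/-- The divisor with a trivialising section carrying to one is unique. -/
theorem eq_of_iso_one (D D' : Mero.Divisor X) (ψ : Mero.divMod D ≅ Mero.divMod D')
    (one : Γ(Mero.divMod D, ⊤)) (hone : one.1 = fun _ => 1) (h1 : (ψ.hom.app ⊤ one).1 = fun _ => 1) :
    D = D' := by
  have key : ∀ (E E' : Mero.Divisor X) (φ : Mero.divMod E ⟶ Mero.divMod E') (o : Γ(Mero.divMod E, ⊤)),
      o.1 = (fun _ => 1) → (φ.app ⊤ o).1 = (fun _ => 1) →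
      ∀ (U : X.Opens) (t : Γ(Mero.divMod E, U)) (y : U), (φ.app U t).1 y = t.1 y := by
    intro E E' φ o ho hφo U t y
    obtain ⟨V, hVU, hyV, a, b, hab⟩ := exists_local_frac (⟨t.1, t.2.1⟩ : Γ(Mero.kmod X, U)) y
    have e1 : b.1 • (Mero.divMod E).presheaf.map (homOfLE hVU).op t =
        a • (Mero.divMod E).presheaf.map (homOfLE (le_top : V ≤ ⊤)).op o := by
      refine Subtype.ext (funext fun z => ?_)
      refine (Algebra.smul_def _ _).trans (Eq.trans ?_ (Algebra.smul_def _ _).symm)
      show aK z.1 _ * t.1 ⟨z.1, hVU z.2⟩ = aK z.1 _ * o.1 ⟨z.1, trivial⟩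
      rw [congrFun ho ⟨z.1, trivial⟩, mul_one, mul_comm]
      exact hab z.1 z.2
    have e2 := congrArg (φ.app V) e1
    rw [Scheme.Modules.Hom.app_smul, Scheme.Modules.Hom.app_smul] at e2
    have n1 : φ.app V ((Mero.divMod E).presheaf.map (homOfLE hVU).op t) =
        (Mero.divMod E').presheaf.map (homOfLE hVU).op (φ.app U t) :=
      congr($(φ.mapPresheaf.naturality (homOfLE hVU).op) t)
    have n2 : φ.app V ((Mero.divMod E).presheaf.map (homOfLE (le_top : V ≤ ⊤)).op o) =
        (Mero.divMod E').presheaf.map (homOfLE (le_top : V ≤ ⊤)).op (φ.app ⊤ o) :=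
      congr($(φ.mapPresheaf.naturality (homOfLE (le_top : V ≤ ⊤)).op) o)
    rw [n1, n2] at e2
    have e3 := (Algebra.smul_def _ _).symm.trans ((congrFun (congrArg Subtype.val e2) ⟨y.1, hyV⟩).trans
      (Algebra.smul_def _ _))
    refine (regular_isUnit b y.1 hyV).mul_left_cancel ?_
    refine e3.trans ?_
    show aK y.1 _ * (φ.app ⊤ o).1 ⟨y.1, trivial⟩ = _
    rw [congrFun hφo ⟨y.1, trivial⟩, mul_one, ← hab y.1 hyV, mul_comm]
  have hinv : (ψ.inv.app ⊤ (ψ.hom.app ⊤ one)) = one := by
    rw [← ConcreteCategory.comp_apply, ← Scheme.Modules.Hom.comp_app, ψ.hom_inv_id]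
    rfl
  refine eq_of_divCond D D' fun U t => ⟨fun h x => ?_, fun h x => ?_⟩
  · let t' : Γ(Mero.divMod D, U) := ⟨t.1, t.2, h⟩
    rw [show t.1 x = t'.1 x from rfl, ← key D D' ψ.hom one hone h1 U t' x]
    exact (ψ.hom.app U t').2.2 x
  · let t' : Γ(Mero.divMod D', U) := ⟨t.1, t.2, h⟩
    rw [show t.1 x = t'.1 x from rfl, ← key D' D ψ.inv (ψ.hom.app ⊤ one) h1 (by rw [hinv]; exact hone) U t' x]
    exact (ψ.inv.app U t').2.2 x

/-- On an integral scheme nonzero sections of invertible modules are regular. -/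
theorem isRegularSection_of_ne_zero [AlgebraicGeometry.IsIntegral X] (hL : PicF.IsInvertible L) (hs : s ≠ 0) :
    IsRegularSection L s := by
  by_contra hne
  obtain ⟨x, hx⟩ := not_forall.mp hne
  obtain ⟨V, hV, hxV, -, e, c, he, hc⟩ := exists_section_coeff L s hL ⊤ x trivial
  have hcx : X.presheaf.germ V x hxV c = 0 := by
    by_contra h0
    refine hx fun r r' hrr => ?_
    simp only [hc x hxV, smul_smul] at hrr
    exact mul_right_cancel₀ h0 ((he x hxV).1 hrr)
  have hc0 : c = 0 := germ_injective_of_isIntegral X x hxV (hcx.trans (map_zero _).symm)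
  refine hs ?_
  apply L.unitHomEquiv.injective
  refine PresheafOfModules.sections_ext _ _ fun W => ?_
  show (SecTwist.val s W.unop : Γ(L, W.unop)) = (SecTwist.val (0 : Coh.structureModule X ⟶ L) W.unop : Γ(L, W.unop))
  refine TopCat.Presheaf.section_ext ⟨L.presheaf, L.isSheaf⟩ W.unop _ _ fun y hy => ?_
  show L.presheaf.germ W.unop y hy _ = L.presheaf.germ W.unop y hy _
  rw [germ_val, germ_val]
  have h0 : sGerm L (0 : Coh.structureModule X ⟶ L) y = 0 := map_zero _
  rw [h0]
  obtain ⟨V', hV', hyV', -, e', c', he', hc'⟩ := exists_section_coeff L s hL ⊤ y trivial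
  obtain ⟨z, hz, hz'⟩ := nonempty_preirreducible_inter V.2 V'.2 ⟨x, hxV⟩ ⟨y, hyV'⟩
  have h1 : X.presheaf.germ V' z hz' c' = 0 := by
    apply (he' z hz').1
    show _ • _ = (0 : X.presheaf.stalk z) • _
    rw [zero_smul, ← hc' z hz', hc z hz, hc0, map_zero, zero_smul]
  have hc'0 : c' = 0 := germ_injective_of_isIntegral X z hz' (h1.trans (map_zero _).symm)
  rw [hc' y hyV', hc'0, map_zero, zero_smul]

/-- An ideal sheaf has at most one divisor. -/
theorem isDivOfIdeal_unique {D D' : Mero.Divisor X} {I : X.IdealSheafData}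
    (h : Mero.IsDivOfIdeal D I) (h' : Mero.IsDivOfIdeal D' I) : D = D' := by
  refine Subtype.ext (funext fun y => ?_)
  obtain ⟨U, hyU, f, hf, hI, hD⟩ := h y
  obtain ⟨U', hyU', f', hf', hI', hD'⟩ := h' y
  obtain ⟨W, hW, hyW, hWsub⟩ := exists_isAffineOpen_mem_and_subset (X := X) (x := y) (U := U.1 ⊓ U'.1) ⟨hyU, hyU'⟩
  have hle : W ≤ U.1 := fun z hz => (hWsub hz).1
  have hle' : W ≤ U'.1 := fun z hz => (hWsub hz).2
  have e1 := I.map_ideal (U := ⟨W, hW⟩) (V := U) hle
  have e2 := I.map_ideal (U := ⟨W, hW⟩) (V := U') hle'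
  rw [hI, Ideal.map_span, Set.image_singleton] at e1
  rw [hI', Ideal.map_span, Set.image_singleton] at e2
  obtain ⟨r, hr⟩ := Ideal.mem_span_singleton'.mp ((e1.trans e2.symm).le (Ideal.mem_span_singleton_self _))
  obtain ⟨r', hr'⟩ := Ideal.mem_span_singleton'.mp ((e2.trans e1.symm).le (Ideal.mem_span_singleton_self _))
  have h1 := congrArg (X.presheaf.germ W y hyW) hr
  have h2 := congrArg (X.presheaf.germ W y hyW) hr'
  rw [map_mul] at h1 h2
  erw [X.presheaf.germ_res_apply, X.presheaf.germ_res_apply] at h1 h2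
  have hu : X.presheaf.germ W y hyW r' * X.presheaf.germ W y hyW r = 1 := by
    refine (mul_cancel_right_mem_nonZeroDivisors (hf' ⟨y, hyU'⟩)).mp ?_
    rw [one_mul, mul_assoc, h1, h2]
  rw [hD ⟨y, hyU⟩, hD' ⟨y, hyU'⟩, germ_eq_iff]
  refine ⟨Units.mkOfMulEqOne _ _ hu, ?_⟩
  show aK y (X.presheaf.germ U'.1 y hyU' f') = aK y (X.presheaf.germ U.1 y hyU f) * aK y (X.presheaf.germ W y hyW r')
  rw [← map_mul, mul_comm, h2]

end Groth.Agent.H28Mero
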