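import Groth.Agent.H28Mero.ZeroScheme
import Groth.Agent.H16Derived.KFlat.StalkTensor

/-!
# Tensor products of invertible modules and products of divisors
-/

set_option autoImplicit false

universe u

open CategoryTheory AlgebraicGeometry TopologicalSpace Opposite TensorProduct
open Groth.Agent.H16Derived.KFlat

namespace Groth.Agent.H28Mero

variable {X : Scheme.{u}}

/-- A module with generators near every point is invertible. -/
theorem isInvertible_of_gen (L : X.Modules)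
    (h : ∀ x : X, ∃ (U : X.Opens) (_ : x ∈ U) (e : Γ(L, U)), IsGen L e) : PicF.IsInvertible L := by
  intro x
  obtain ⟨U, hxU, e, he⟩ := h x
  let s : Γ(L.restrict U.ι, ⊤) :=
    (L.restrictAppIso U.ι ⊤).inv (L.presheaf.map (homOfLE (U.ι_image_le ⊤)).op e)
  let φ := H29Fitt.homSec (L.restrict U.ι) s
  have happ : ∀ (W : U.toScheme.Opens) (r : Γ(U.toScheme, W)),
      (L.restrictAppIso U.ι W).hom (φ.app W r) =
        (show Γ(X, U.ι ''ᵁ W) from (U.ι.appIso W).inv r) •
          L.presheaf.map (homOfLE (U.ι_image_le W)).op e := by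
    intro W r
    have e2 : (L.restrictAppIso U.ι W).hom (φ.app W r) = (show Γ(X, U.ι ''ᵁ W) from (U.ι.appIso W).inv r) •
        L.presheaf.map (homOfLE (Scheme.Hom.image_mono U.ι (le_top : W ≤ ⊤))).op
          (L.presheaf.map (homOfLE (U.ι_image_le ⊤)).op e) := rfl
    rw [e2]
    congr 1
    exact congr($((L.presheaf.map_comp (homOfLE (U.ι_image_le ⊤)).op
      (homOfLE (Scheme.Hom.image_mono U.ι (le_top : W ≤ ⊤))).op).symm) e)
  have hiso : ∀ W : U.toScheme.Opens, Function.Bijective (φ.app W) := by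
    intro W
    refine ⟨fun r r' h => (ConcreteCategory.bijective_of_isIso (U.ι.appIso W).inv).1 (section_ext fun y hy => ?_),
      fun t => ?_⟩
    · have h1 := happ W r
      rw [h, happ W r'] at h1
      have h2 := congrArg (L.presheaf.germ (U.ι ''ᵁ W) y hy) h1
      rw [Mero.germ_smul, Mero.germ_smul, L.presheaf.germ_res_apply] at h2
      exact (he y (U.ι_image_le W hy)).1 h2.symm
    · obtain ⟨r, hr⟩ := exists_coeff he (U.ι_image_le W) ((L.restrictAppIso U.ι W).hom t)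
      refine ⟨(U.ι.appIso W).hom r, (ConcreteCategory.bijective_of_isIso
        (L.restrictAppIso U.ι W).hom).1 ?_⟩
      rw [happ, ← ConcreteCategory.comp_apply (U.ι.appIso W).hom, Iso.hom_inv_id,
        ConcreteCategory.id_apply]
      exact hr.symm
  have : IsIso φ := by
    rw [Scheme.Modules.Hom.isIso_iff_isIso_app]
    intro W
    rw [ConcreteCategory.isIso_iff_bijective]
    exact hiso W
  exact ⟨U, hxU, ⟨(asIso φ).symm⟩⟩

lemma bijective_smul_tmul {R M N : Type u} [CommRing R] [AddCommGroup M] [Module R M] [AddCommGroup N]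
    [Module R N] {m : M} {n : N} (hm : Function.Bijective fun r : R => r • m)
    (hn : Function.Bijective fun r : R => r • n) :
    Function.Bijective fun r : R => r • (m ⊗ₜ[R] n) := by
  let eM : R ≃ₗ[R] M := LinearEquiv.ofBijective (LinearMap.toSpanSingleton R M m) hm
  let eN : R ≃ₗ[R] N := LinearEquiv.ofBijective (LinearMap.toSpanSingleton R N n) hn
  let e := (TensorProduct.lid R R).symm.trans (TensorProduct.congr eM eN)
  refine (congrArg Function.Bijective (funext fun r => ?_)).mp e.bijective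
  show (TensorProduct.congr eM eN) (1 ⊗ₜ r) = r • (m ⊗ₜ[R] n)
  rw [TensorProduct.congr_tmul]
  show ((1 : R) • m) ⊗ₜ (r • n) = _
  rw [one_smul, TensorProduct.tmul_smul]

/-- The tensor product of generators is a generator. -/
lemma isGen_tmul {M N : X.Modules} {U : X.Opens} {m : Γ(M, U)} {n : Γ(N, U)} (hm : IsGen M m) (hn : IsGen N n) :
    IsGen (Stalk.tensor M N) (Stalk.tensorSect U m n) := by
  intro y hy
  have h := (Stalk.stalkEquiv M N y).bijective.comp (bijective_smul_tmul (hm y hy) (hn y hy))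
  refine (congrArg Function.Bijective (funext fun r => ?_)).mp h
  show Stalk.toStalk M N y (r • _) = _
  rw [map_smul, Stalk.toStalk_tmul, Stalk.pair_germ]

theorem isInvertible_tensor {M N : X.Modules} (hM : PicF.IsInvertible M) (hN : PicF.IsInvertible N) :
    PicF.IsInvertible (Stalk.tensor M N) := by
  refine isInvertible_of_gen _ fun x => ?_
  obtain ⟨U, e, hxU, he⟩ := H29Mero.exists_generator hM x
  obtain ⟨V, e', hxV, he'⟩ := H29Mero.exists_generator hN x
  refine ⟨U ⊓ V, ⟨hxU, hxV⟩, Stalk.tensorSect (U ⊓ V) (M.presheaf.map (homOfLE inf_le_left).op e)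
    (N.presheaf.map (homOfLE inf_le_right).op e'), isGen_tmul (fun y hy => ?_) fun y hy => ?_⟩
  · simp only [M.presheaf.germ_res_apply]; exact he y hy.1
  · simp only [N.presheaf.germ_res_apply]; exact he' y hy.2

/-- A morphism to `O_X(D)` sending generators to frames is an isomorphism. -/
theorem isIso_of_frame {L : X.Modules} (D : Mero.Divisor X) (φ : L ⟶ Mero.divMod D)
    (h : ∀ x : X, ∃ (U : X.Opens) (_ : x ∈ U) (f : (Γ(Mero.kmod X, U))ˣ) (e : Γ(L, U)), IsGen L e ∧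
      (∀ y : U, D.1 y.1 = QuotientGroup.mk (uval f y)) ∧
      ∀ y : U, (φ.app U e).1 y = (↑f⁻¹ : Γ(Mero.kmod X, U)).1 y) : IsIso φ := by
  choose U hxU f e he hD hφ using h
  have hinv : ∀ x (y : U x), (↑(f x)⁻¹ : Γ(Mero.kmod X, U x)).1 y * (f x : Γ(Mero.kmod X, U x)).1 y = 1 :=
    fun x y => congrFun (congrArg Subtype.val (f x).inv_mul) y
  have happ : ∀ (x : X) (W : X.Opens) (hW : W ≤ U x) (r : Γ(X, W)) (y : W),
      (φ.app W (r • L.presheaf.map (homOfLE hW).op (e x))).1 y =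
        aK y.1 (X.presheaf.germ W y.1 y.2 r) * (↑(f x)⁻¹ : Γ(Mero.kmod X, U x)).1 ⟨y.1, hW y.2⟩ := by
    intro x W hW r y
    rw [Scheme.Modules.Hom.app_smul]
    refine (Algebra.smul_def _ _).trans (congrArg (_ * ·) ?_)
    have n1 : φ.app W (L.presheaf.map (homOfLE hW).op (e x)) =
        (Mero.divMod D).presheaf.map (homOfLE hW).op (φ.app (U x) (e x)) :=
      congr($(φ.mapPresheaf.naturality (homOfLE hW).op) (e x))
    rw [n1]
    exact hφ x ⟨y.1, hW y.2⟩
  have hinjA : ∀ (W : X.Opens) (n n' : Γ(L, W)), φ.app W n = φ.app W n' → n = n' := by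
    intro W n n' hnn
    refine TopCat.Presheaf.section_ext ⟨L.presheaf, L.isSheaf⟩ W n n' fun y hy => ?_
    let O : X.Opens := W ⊓ U y
    obtain ⟨r, hr⟩ := exists_coeff (he y) (inf_le_right : O ≤ U y) (L.presheaf.map (homOfLE (inf_le_left : O ≤ W)).op n)
    obtain ⟨r', hr'⟩ := exists_coeff (he y) (inf_le_right : O ≤ U y) (L.presheaf.map (homOfLE (inf_le_left : O ≤ W)).op n')
    have n1 : ∀ m : Γ(L, W), φ.app O (L.presheaf.map (homOfLE (inf_le_left : O ≤ W)).op m) =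
        (Mero.divMod D).presheaf.map (homOfLE (inf_le_left : O ≤ W)).op (φ.app W m) := fun m =>
      congr($(φ.mapPresheaf.naturality (homOfLE (inf_le_left : O ≤ W)).op) m)
    have h1 := congrFun (congrArg Subtype.val
      ((n1 n).trans ((congrArg _ hnn).trans (n1 n').symm))) ⟨y, hy, hxU y⟩
    rw [hr, hr', happ, happ] at h1
    have h2 := aK_injective y ((uval (f y)⁻¹ ⟨y, hxU y⟩).isUnit.mul_right_cancel h1)
    have h3 := congrArg (L.presheaf.germ O y ⟨hy, hxU y⟩) hr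
    have h4 := congrArg (L.presheaf.germ O y ⟨hy, hxU y⟩) hr'
    rw [L.presheaf.germ_res_apply, Mero.germ_smul] at h3 h4
    show L.presheaf.germ W y hy n = L.presheaf.germ W y hy n'
    rw [h3, h4, h2]
  have hbij : ∀ W : X.Opens, Function.Bijective (φ.app W) := by
    intro W
    refine ⟨fun n n' h => hinjA W n n' h, fun t => ?_⟩
    have hloc : ∀ y : W, ∃ (O : X.Opens) (hOW : O ≤ W) (_ : y.1 ∈ O) (n : Γ(L, O)),
        φ.app O n = (Mero.divMod D).presheaf.map (homOfLE hOW).op t := by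
      intro y
      let p : Γ(Mero.kmod X, W ⊓ U y.1) :=
        ⟨fun z => t.1 ⟨z.1, z.2.1⟩ * (f y.1 : Γ(Mero.kmod X, U y.1)).1 ⟨z.1, z.2.2⟩,
          Mero.kLoc_mul X _ _ _ ((Mero.kLoc X).res (homOfLE inf_le_left) _ t.2.1)
            ((Mero.kLoc X).res (homOfLE inf_le_right) _ (f y.1 : Γ(Mero.kmod X, U y.1)).2)⟩
      obtain ⟨r, hr⟩ := exists_section p fun z =>
        (divCond_iff D z.1 _ (hD y.1 ⟨z.1, z.2.2⟩) _).1 (t.2.2 ⟨z.1, z.2.1⟩)
      refine ⟨W ⊓ U y.1, inf_le_left, ⟨y.2, hxU y.1⟩,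
        r • L.presheaf.map (homOfLE inf_le_right).op (e y.1), Subtype.ext (funext fun z => ?_)⟩
      rw [happ]
      show _ = t.1 ⟨z.1, z.2.1⟩
      have h1 : t.1 ⟨z.1, z.2.1⟩ * (f y.1 : Γ(Mero.kmod X, U y.1)).1 ⟨z.1, z.2.2⟩ =
          aK z.1 (X.presheaf.germ _ z.1 z.2 r) :=
        (congrFun (congrArg Subtype.val hr) z).trans (toK_val r z)
      rw [← h1, mul_assoc]
      refine (congrArg (t.1 ⟨z.1, z.2.1⟩ * ·) ?_).trans (mul_one _)
      rw [mul_comm]; exact hinv y.1 ⟨z.1, z.2.2⟩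
    choose O hOW hyO n hn using hloc
    obtain ⟨m, hm, -⟩ := TopCat.Sheaf.existsUnique_gluing' (F := ⟨L.presheaf, L.isSheaf⟩) O W
      (fun y => homOfLE (hOW y)) (fun y hy => Opens.mem_iSup.mpr ⟨⟨y, hy⟩, hyO _⟩) n (fun i j => by
        refine hinjA _ _ _ (Subtype.ext (funext fun z => ?_))
        have n1 : ∀ (k : W) (hk : O i ⊓ O j ≤ O k), φ.app (O i ⊓ O j) (L.presheaf.map (homOfLE hk).op (n k)) =
            (Mero.divMod D).presheaf.map (homOfLE hk).op (φ.app (O k) (n k)) := fun k hk =>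
          congr($(φ.mapPresheaf.naturality (homOfLE hk).op) (n k))
        refine Eq.trans (congrFun (congrArg Subtype.val (n1 i inf_le_left)) z) ?_
        refine Eq.trans ?_ (congrFun (congrArg Subtype.val (n1 j inf_le_right)) z).symm
        exact (congrFun (congrArg Subtype.val (hn i)) ⟨z.1, z.2.1⟩).trans
          (congrFun (congrArg Subtype.val (hn j)) ⟨z.1, z.2.2⟩).symm)
    refine ⟨m, Subtype.ext (funext fun y => ?_)⟩
    have n1 : φ.app (O y) (L.presheaf.map (homOfLE (hOW y)).op m) =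
        (Mero.divMod D).presheaf.map (homOfLE (hOW y)).op (φ.app W m) :=
      congr($(φ.mapPresheaf.naturality (homOfLE (hOW y)).op) m)
    have hm' : L.presheaf.map (homOfLE (hOW y)).op m = n y := hm y
    rw [hm'] at n1
    exact (congrFun (congrArg Subtype.val (n1.symm.trans (hn y))) ⟨y.1, hyO y⟩)
  rw [Scheme.Modules.Hom.isIso_iff_isIso_app]
  intro W
  rw [ConcreteCategory.isIso_iff_bijective]
  exact hbij W

/-- `O_X(D) ⊗ O_X(E) ≅ O_X(D + E)`. -/
theorem exists_mulHom (D E : Mero.Divisor X) :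
    ∃ μ : CohB1.tensorMod (Mero.divMod D) (Mero.divMod E) ⟶ Mero.divMod (D * E),
      (∀ (U : X.Opens) (t : Γ(Mero.divMod D, U)) (t' : Γ(Mero.divMod E, U)),
        (Mero.divModι (D * E)).app U (μ.app U (SecTwist.tmul (Mero.divMod D) (Mero.divMod E) U t t')) =
          (Mero.divModι D).app U t * (Mero.divModι E).app U t') ∧
      IsIso μ := by
  let β : ∀ U : X.Opens, Γ(Mero.divMod D, U) → Γ(Mero.divMod E, U) → Γ(Mero.divMod (D * E), U) :=
    fun U t t' => ⟨fun y => t.1 y * t'.1 y, Mero.kLoc_mul X _ _ _ t.2.1 t'.2.1, fun y => by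
      obtain ⟨g, hg⟩ := QuotientGroup.mk_surjective (D.1 y.1)
      obtain ⟨g', hg'⟩ := QuotientGroup.mk_surjective (E.1 y.1)
      have hDE : (D * E).1 y.1 = QuotientGroup.mk (g * g') := by
        show D.1 y.1 * E.1 y.1 = _
        rw [← hg, ← hg', QuotientGroup.mk_mul]
      rw [divCond_iff _ y.1 _ hDE, Units.val_mul, mul_mul_mul_comm]
      exact mul_mem ((divCond_iff D y.1 g hg.symm _).1 (t.2.2 y)) ((divCond_iff E y.1 g' hg'.symm _).1 (t'.2.2 y))⟩
  let μ := Stalk.desc β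
    (fun U m m' n => Subtype.ext (funext fun y => add_mul _ _ _))
    (fun U r m n => Subtype.ext (funext fun y => smul_mul_assoc (α := X.presheaf.stalk y.1) _ _ _))
    (fun U m n n' => Subtype.ext (funext fun y => mul_add _ _ _))
    (fun U r m n => Subtype.ext (funext fun y => mul_smul_comm (α := X.presheaf.stalk y.1) _ _ _))
    (fun U V i m n => rfl)
  have hμ : ∀ (U : X.Opens) (t : Γ(Mero.divMod D, U)) (t' : Γ(Mero.divMod E, U)),
      μ.app U (Stalk.tensorSect U t t') = β U t t' := fun U t t' => Stalk.desc_tensorSect _ _ _ _ _ _ U t t'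
  refine ⟨μ, fun U t t' => Subtype.ext (funext fun y => ?_), isIso_of_frame (D * E) μ fun x => ?_⟩
  · exact congrFun (congrArg Subtype.val (hμ U t t')) y
  · obtain ⟨U, hxU, f, hf⟩ := exists_local_rep D x
    obtain ⟨V, hxV, g, hg⟩ := exists_local_rep E x
    let O := U ⊓ V
    let ρ : ∀ {U' : X.Opens}, O ≤ U' → Γ(Mero.kmod X, U') → Γ(Mero.kmod X, O) := fun h t =>
      ⟨fun y => t.1 ⟨y.1, h y.2⟩, (Mero.kLoc X).res (homOfLE h) _ t.2⟩
    let a : Γ(Mero.kmod X, O) := ρ inf_le_left f * ρ inf_le_right g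
    let b : Γ(Mero.kmod X, O) := ρ inf_le_left ↑f⁻¹ * ρ inf_le_right ↑g⁻¹
    have hf1 : ∀ y : O, (f : Γ(Mero.kmod X, U)).1 ⟨y.1, y.2.1⟩ * (↑f⁻¹ : Γ(Mero.kmod X, U)).1 ⟨y.1, y.2.1⟩ = 1 :=
      fun y => congrFun (congrArg Subtype.val f.mul_inv) ⟨y.1, y.2.1⟩
    have hg1 : ∀ y : O, (g : Γ(Mero.kmod X, V)).1 ⟨y.1, y.2.2⟩ * (↑g⁻¹ : Γ(Mero.kmod X, V)).1 ⟨y.1, y.2.2⟩ = 1 :=
      fun y => congrFun (congrArg Subtype.val g.mul_inv) ⟨y.1, y.2.2⟩
    have hab : a * b = 1 := Subtype.ext (funext fun y => by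
      show (_ * _) * (_ * _) = (1 : Mero.KStalk X y.1)
      rw [mul_mul_mul_comm]
      exact (congrArg₂ (· * ·) (hf1 y) (hg1 y)).trans (one_mul 1))
    let eD : Γ(Mero.divMod D, O) := ⟨(ρ inf_le_left ↑f⁻¹).1, (ρ inf_le_left ↑f⁻¹).2,
      fun y => (divCond_iff D y.1 _ (hf ⟨y.1, y.2.1⟩) _).2 ⟨1, by rw [map_one, mul_comm]; exact (hf1 y).symm⟩⟩
    let eE : Γ(Mero.divMod E, O) := ⟨(ρ inf_le_right ↑g⁻¹).1, (ρ inf_le_right ↑g⁻¹).2,
      fun y => (divCond_iff E y.1 _ (hg ⟨y.1, y.2.2⟩) _).2 ⟨1, by rw [map_one, mul_comm]; exact (hg1 y).symm⟩⟩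
    have hgen : ∀ (D : Mero.Divisor X) (U : X.Opens) (f : (Γ(Mero.kmod X, U))ˣ)
        (hf : ∀ y : U, D.1 y.1 = QuotientGroup.mk (uval f y)) (O : X.Opens) (hO : O ≤ U)
        (e : Γ(Mero.divMod D, O)) (he : ∀ y : O, e.1 y = (↑f⁻¹ : Γ(Mero.kmod X, U)).1 ⟨y.1, hO y.2⟩),
        IsGen (Mero.divMod D) e := by
      intro D U f hf O hO e he y hy
      have hfi : ∀ z : U, (↑f⁻¹ : Γ(Mero.kmod X, U)).1 z * (f : Γ(Mero.kmod X, U)).1 z = 1 := fun z =>
        congrFun (congrArg Subtype.val f.inv_mul) z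
      constructor
      · intro r r' hrr
        obtain ⟨T, hyT, r, rfl⟩ := X.presheaf.exists_germ_eq r
        obtain ⟨T', hyT', r', rfl⟩ := X.presheaf.exists_germ_eq r'
        have h3 : y ∈ T ⊓ T' ⊓ O := ⟨⟨hyT, hyT'⟩, hy⟩
        obtain ⟨W, hyW, i, j, hW⟩ := (Mero.divMod D).presheaf.germ_eq y h3 h3
          (X.presheaf.map (homOfLE (inf_le_left.trans inf_le_left : T ⊓ T' ⊓ O ≤ T)).op r •
            (Mero.divMod D).presheaf.map (homOfLE (inf_le_right : T ⊓ T' ⊓ O ≤ O)).op e)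
          (X.presheaf.map (homOfLE (inf_le_left.trans inf_le_right : T ⊓ T' ⊓ O ≤ T')).op r' •
            (Mero.divMod D).presheaf.map (homOfLE (inf_le_right : T ⊓ T' ⊓ O ≤ O)).op e)
          (by
            simp only [Mero.germ_smul, X.presheaf.germ_res_apply, (Mero.divMod D).presheaf.germ_res_apply]
            exact hrr)
        have h4 := congrFun (congrArg Subtype.val hW) ⟨y, hyW⟩
        have h5 : aK y (X.presheaf.germ T y hyT r) * e.1 ⟨y, hy⟩ = aK y (X.presheaf.germ T' y hyT' r') * e.1 ⟨y, hy⟩ := by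
          have h6 := (Algebra.smul_def _ _).symm.trans (h4.trans (Algebra.smul_def _ _))
          erw [germ_res, germ_res] at h6
          exact h6
        refine aK_injective y ((IsUnit.of_mul_eq_one ((f : Γ(Mero.kmod X, U)).1 ⟨y, hO hy⟩) ?_).mul_right_cancel h5)
        rw [he]; exact hfi ⟨y, hO hy⟩
      · intro m
        obtain ⟨T, hyT, t, rfl⟩ := (Mero.divMod D).presheaf.germ_exist m
        let p : Γ(Mero.kmod X, T ⊓ O) :=
          ⟨fun z => t.1 ⟨z.1, z.2.1⟩ * (f : Γ(Mero.kmod X, U)).1 ⟨z.1, hO z.2.2⟩,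
            Mero.kLoc_mul X _ _ _ ((Mero.kLoc X).res (homOfLE inf_le_left) _ t.2.1)
              ((Mero.kLoc X).res (homOfLE (inf_le_right.trans hO)) _ (f : Γ(Mero.kmod X, U)).2)⟩
        obtain ⟨r, hr⟩ := exists_section p fun z =>
          (divCond_iff D z.1 _ (hf ⟨z.1, hO z.2.2⟩) _).1 (t.2.2 ⟨z.1, z.2.1⟩)
        refine ⟨X.presheaf.germ (T ⊓ O) y ⟨hyT, hy⟩ r, ?_⟩
        have e1 : r • (Mero.divMod D).presheaf.map (homOfLE (inf_le_right : T ⊓ O ≤ O)).op e =
            (Mero.divMod D).presheaf.map (homOfLE (inf_le_left : T ⊓ O ≤ T)).op t := by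
          refine Subtype.ext (funext fun z => ?_)
          refine (Algebra.smul_def _ _).trans ?_
          show aK z.1 _ * e.1 ⟨z.1, z.2.2⟩ = t.1 ⟨z.1, z.2.1⟩
          have h1 : t.1 ⟨z.1, z.2.1⟩ * (f : Γ(Mero.kmod X, U)).1 ⟨z.1, hO z.2.2⟩ =
              aK z.1 (X.presheaf.germ _ z.1 z.2 r) :=
            (congrFun (congrArg Subtype.val hr) z).trans (toK_val r z)
          rw [← h1, mul_assoc, he]
          refine (congrArg (t.1 ⟨z.1, z.2.1⟩ * ·) ?_).trans (mul_one _)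
          rw [mul_comm]; exact hfi _
        have h2 := congrArg ((Mero.divMod D).presheaf.germ (T ⊓ O) y ⟨hyT, hy⟩) e1
        rw [Mero.germ_smul, (Mero.divMod D).presheaf.germ_res_apply, (Mero.divMod D).presheaf.germ_res_apply] at h2
        exact h2
    refine ⟨O, ⟨hxU, hxV⟩, Units.mkOfMulEqOne a b hab, Stalk.tensorSect O eD eE,
      isGen_tmul (hgen D U f hf O inf_le_left eD fun _ => rfl) (hgen E V g hg O inf_le_right eE fun _ => rfl),
      fun y => ?_, fun y => ?_⟩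
    · show D.1 y.1 * E.1 y.1 = _
      rw [hf ⟨y.1, y.2.1⟩, hg ⟨y.1, y.2.2⟩, ← QuotientGroup.mk_mul]
      exact congrArg _ (Units.ext rfl)
    · rw [hμ]
      rfl

end Groth.Agent.H28Mero
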