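import Groth.Agent.H29Mero.Affine
import Groth.Agent.H29Blow.WeakAss

/-!
# Meromorphic functions and divisors: elementary facts
-/

set_option autoImplicit false

universe u

open CategoryTheory AlgebraicGeometry TopologicalSpace Opposite

namespace Groth.Agent.H28Mero

variable {X : Scheme.{u}}

/-- The map from the local ring to the stalk ring of meromorphic functions. -/
noncomputable abbrev aK (x : X) : X.presheaf.stalk x →+* Mero.KStalk X x :=
  algebraMap (X.presheaf.stalk x) (Mero.KStalk X x)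

lemma aK_injective (x : X) : Function.Injective (aK x) := Mero.algebraMap_KStalk_injective x

lemma mk_mul (x : X) (a : X.presheaf.stalk x) (s : Mero.regStalk X x) :
    (LocalizedModule.mk a s : Mero.KStalk X x) * aK x s = aK x a := by
  show (Localization.mk a s : Mero.KStalk X x) * _ = _
  rw [Localization.mk_eq_mk', IsLocalization.mk'_spec]

lemma toK_val {U : X.Opens} (r : Γ(X, U)) (x : U) :
    (Mero.toK X U r).1 x = aK x.1 (X.presheaf.germ U x.1 x.2 r) := by
  show (Localization.mk _ 1 : Mero.KStalk X x.1) = _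
  rw [Localization.mk_one_eq_algebraMap]

lemma germ_res {U V : X.Opens} (h : V ≤ U) (r : Γ(X, U)) (y : X) (hy : y ∈ V) :
    X.presheaf.germ V y hy (X.presheaf.map (homOfLE h).op r) = X.presheaf.germ U y (h hy) r :=
  TopCat.Presheaf.germ_res_apply X.presheaf (homOfLE h) y hy r

lemma section_ext {U : X.Opens} {s t : Γ(X, U)}
    (h : ∀ x (hx : x ∈ U), X.presheaf.germ U x hx s = X.presheaf.germ U x hx t) : s = t :=
  TopCat.Presheaf.section_ext X.sheaf U s t h

lemma exists_nhd_germ_eq {V W : X.Opens} {x : X} (hV : x ∈ V) (hW : x ∈ W) (s : Γ(X, V)) (t : Γ(X, W))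
    (h : X.presheaf.germ V x hV s = X.presheaf.germ W x hW t) :
    ∃ (O : X.Opens) (hOV : O ≤ V) (hOW : O ≤ W), x ∈ O ∧
      ∀ y (hy : y ∈ O), X.presheaf.germ V y (hOV hy) s = X.presheaf.germ W y (hOW hy) t := by
  obtain ⟨O, hxO, i, j, hO⟩ := X.presheaf.germ_eq x hV hW s t h
  refine ⟨O, i.le, j.le, hxO, fun y hy => ?_⟩
  have := congrArg (X.presheaf.germ O y hy) hO
  rwa [TopCat.Presheaf.germ_res_apply, TopCat.Presheaf.germ_res_apply] at this

/-- A meromorphic function is near every point a fraction, in multiplicative form. -/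
lemma exists_local_frac {U : X.Opens} (f : Γ(Mero.kmod X, U)) (x : U) :
    ∃ (V : X.Opens) (hVU : V ≤ U) (_ : x.1 ∈ V) (a : Γ(X, V)) (b : Mero.regSub X V),
      ∀ y (hy : y ∈ V), f.1 ⟨y, hVU hy⟩ * aK y (X.presheaf.germ V y hy b.1) =
        aK y (X.presheaf.germ V y hy a) := by
  obtain ⟨V, m, i, a, b, w⟩ := f.2 x
  refine ⟨V, i.le, m, a, b, fun y hy => ?_⟩
  have w' := w ⟨y, hy⟩
  dsimp only at w'
  rw [show f.1 ⟨y, i.le hy⟩ = _ from w']
  exact mk_mul y _ (Mero.regGerm ⟨y, hy⟩ b)

lemma regular_isUnit {U : X.Opens} (b : Mero.regSub X U) (y : X) (hy : y ∈ U) :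
    IsUnit (aK y (X.presheaf.germ U y hy b.1)) :=
  IsLocalization.map_units (Mero.KStalk X y) (Mero.regGerm ⟨y, hy⟩ b)

/-- If a meromorphic function lies in the local ring at `x`, it is a section of `O_X` near `x`. -/
lemma exists_section_nhd {U : X.Opens} (f : Γ(Mero.kmod X, U)) (x : U) (r : X.presheaf.stalk x.1)
    (hr : f.1 x = aK x.1 r) :
    ∃ (W : X.Opens) (hWU : W ≤ U) (_ : x.1 ∈ W) (s : Γ(X, W)),
      ∀ y (hy : y ∈ W), f.1 ⟨y, hWU hy⟩ = aK y (X.presheaf.germ W y hy s) := by
  obtain ⟨V, hVU, hxV, a, b, hab⟩ := exists_local_frac f x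
  obtain ⟨V', hxV', r, rfl⟩ := X.presheaf.exists_germ_eq r
  have hxVV : x.1 ∈ V ⊓ V' := ⟨hxV, hxV'⟩
  have h1 : X.presheaf.germ (V ⊓ V') x.1 hxVV
      (X.presheaf.map (homOfLE inf_le_right).op r * X.presheaf.map (homOfLE inf_le_left).op b.1) =
      X.presheaf.germ V x.1 hxV a := by
    apply aK_injective
    rw [← hab x.1 hxV, map_mul, germ_res, germ_res, map_mul]
    exact congrArg (· * _) hr.symm
  obtain ⟨O, hO1, hO2, hxO, hO⟩ := exists_nhd_germ_eq _ _ _ _ h1
  refine ⟨O, hO2.trans hVU, hxO, X.presheaf.map (homOfLE (hO1.trans inf_le_right)).op r, fun y hy => ?_⟩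
  refine (regular_isUnit b y (hO2 hy)).mul_right_cancel ?_
  rw [hab y (hO2 hy), ← hO y hy, map_mul, germ_res, germ_res, map_mul, germ_res]

/-- Pointwise membership in the local rings gives a section. -/
lemma exists_section {U : X.Opens} (f : Γ(Mero.kmod X, U))
    (h : ∀ x : U, f.1 x ∈ (aK x.1).range) : ∃ r : Γ(X, U), f = Mero.toK X U r := by
  choose r hr using h
  choose W hWU hxW s hs using fun x => exists_section_nhd f x (r x) (hr x).symm
  obtain ⟨t, ht, -⟩ := X.sheaf.existsUnique_gluing' W U (fun x => homOfLE (hWU x))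
    (fun y hy => Opens.mem_iSup.mpr ⟨⟨y, hy⟩, hxW _⟩) s (fun i j => section_ext fun y hy => by
      have e1 := hs i y (inf_le_left (b := W j) hy)
      have e2 := hs j y (inf_le_right (a := W i) hy)
      apply aK_injective
      erw [germ_res, germ_res]
      exact e1.symm.trans e2)
  refine ⟨t, Subtype.ext (funext fun x => ?_)⟩
  refine Eq.trans ?_ (toK_val t x).symm
  have := congrArg (X.presheaf.germ (W x) x.1 (hxW x)) (ht x)
  erw [germ_res] at this
  erw [this]
  exact hs x x.1 (hxW x)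

/-- The image of `regSub` on an affine open. -/
theorem regSub_eq_nonZeroDivisors {U : X.Opens} (hU : IsAffineOpen U) :
    Mero.regSub X U = nonZeroDivisors Γ(X, U) := by
  refine le_antisymm (fun f hf => mem_nonZeroDivisors_iff_right.mpr fun s hs => section_ext fun x hx => ?_)
    fun f hf x => H29Mero.germ_mem_nzd hU hf x.2
  rw [map_zero]
  exact mem_nonZeroDivisors_iff_right.mp (hf ⟨x, hx⟩) _ (by rw [← map_mul, hs, map_zero])

/-- Restriction of meromorphic functions to a schematically dense open is injective. -/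
theorem kmod_map_injective (U V : X.Opens) (hVU : V ≤ U)
    (hV : ∀ W : X.Opens, W ≤ U →
      Function.Injective ⇑(X.presheaf.map (homOfLE (inf_le_left : W ⊓ V ≤ W)).op)) :
    Function.Injective ⇑((Mero.kmod X).presheaf.map (homOfLE hVU).op) := by
  rw [injective_iff_map_eq_zero]
  intro s hs
  refine Subtype.ext (funext fun x => ?_)
  obtain ⟨W, hWU, hxW, a, b, hab⟩ := exists_local_frac s x
  have ha : a = 0 := hV W hWU (by
    rw [map_zero]
    refine section_ext fun y hy => ?_
    rw [map_zero, germ_res]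
    apply aK_injective
    rw [← hab y hy.1, map_zero]
    have : s.1 ⟨y, hWU hy.1⟩ = 0 := congrFun (congrArg Subtype.val hs) ⟨y, hy.2⟩
    rw [this, zero_mul])
  refine (regular_isUnit b x.1 hxW).mul_right_cancel ?_
  rw [show s.1 x * _ = _ from hab x.1 hxW, ha, map_zero, map_zero]
  exact (zero_mul _).symm

/-- The domain of a meromorphic function is open and schematically dense. -/
theorem exists_domain (f : Γ(Mero.kmod X, ⊤)) :
    ∃ D : X.Opens, (D : Set X) = {x | f.1 ⟨x, Opens.mem_top x⟩ ∈ (aK x).range} ∧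
      ∀ V : X.Opens, Function.Injective (X.presheaf.map (homOfLE (inf_le_left : V ⊓ D ≤ V)).op) := by
  let D : X.Opens := ⟨{x | f.1 ⟨x, Opens.mem_top x⟩ ∈ (aK x).range}, isOpen_iff_forall_mem_open.mpr
    fun x hx => by
      obtain ⟨r, hr⟩ := hx
      obtain ⟨W, _, hxW, s, hs⟩ := exists_section_nhd f ⟨x, Opens.mem_top x⟩ r hr.symm
      exact ⟨W, fun y hy => ⟨_, (hs y hy).symm⟩, W.2, hxW⟩⟩
  refine ⟨D, rfl, fun V => ?_⟩
  rw [injective_iff_map_eq_zero]
  intro g hg
  refine section_ext fun x hxV => ?_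
  obtain ⟨V₀, _, hxV₀, a, b, hab⟩ := exists_local_frac f ⟨x, Opens.mem_top x⟩
  obtain ⟨W, hW, hxW, hWsub⟩ := exists_isAffineOpen_mem_and_subset (X := X) (x := x) (U := V₀ ⊓ V) ⟨hxV₀, hxV⟩
  have h1 : W ≤ V₀ := fun y hy => (hWsub hy).1
  have h2 : W ≤ V := fun y hy => (hWsub hy).2
  let b' : Γ(X, W) := X.presheaf.map (homOfLE h1).op b.1
  let g' : Γ(X, W) := X.presheaf.map (homOfLE h2).op g
  have hD : X.basicOpen b' ≤ D := fun y hy => by
    have hyW := X.basicOpen_le b' hy
    have hu := (X.mem_basicOpen b' y hyW).mp hy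
    rw [germ_res] at hu
    obtain ⟨v, hv⟩ := hu
    refine ⟨X.presheaf.germ V₀ y (h1 hyW) a * ↑v⁻¹, ?_⟩
    refine (regular_isUnit b y (h1 hyW)).mul_right_cancel ?_
    rw [hab y (h1 hyW), map_mul, mul_assoc, ← map_mul, ← hv, Units.inv_mul, map_one, mul_one]
  obtain ⟨n, hn⟩ := exists_pow_mul_eq_zero_of_res_basicOpen_eq_zero_of_isCompact X hW.isCompact g' b'
    (section_ext fun y hy => by
      rw [map_zero]
      erw [germ_res, germ_res]
      have := congrArg (X.presheaf.germ (V ⊓ D) y ⟨h2 (X.basicOpen_le b' hy), hD hy⟩) hg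
      erw [germ_res, map_zero] at this
      exact this)
  have hb : b' ∈ Mero.regSub X W := Mero.regSub_res (homOfLE h1) b.2
  have h3 := congrArg (X.presheaf.germ W x hxW) hn
  rw [map_mul, map_zero, germ_res] at h3
  rw [map_zero]
  exact mem_nonZeroDivisors_iff_left.mp ((pow_mem hb n) ⟨x, hxW⟩) _ h3

end Groth.Agent.H28Mero
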