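import Groth.Agent.H28Mero.Basic
import Groth.Agent.H11Tilde.Local
import Groth.Agent.H11Tilde.ModLoc
import Groth.Agent.H29Fitt.FreeLocal

/-!
# Divisors and the modules `O_X(D)`
-/

set_option autoImplicit false

universe u

open CategoryTheory AlgebraicGeometry TopologicalSpace Opposite

namespace Groth.Agent.H28Mero

variable {X : Scheme.{u}}

lemma germ_eq_iff {x : X} {g g' : (Mero.KStalk X x)ˣ} :
    (QuotientGroup.mk g : Mero.Germ X x) = QuotientGroup.mk g' ↔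
      ∃ v : (X.presheaf.stalk x)ˣ, (g' : Mero.KStalk X x) = g * aK x v := by
  rw [QuotientGroup.eq]
  constructor
  · rintro ⟨v, hv⟩
    refine ⟨v, ?_⟩
    have := congrArg Units.val hv
    simp only [Units.coe_map, Units.val_mul] at this
    rw [show aK x v = _ from this, ← mul_assoc, Units.mul_inv, one_mul]
  · rintro ⟨v, hv⟩
    refine ⟨v, Units.ext ?_⟩
    simp only [Units.coe_map, Units.val_mul]
    rw [hv, ← mul_assoc, Units.inv_mul, one_mul]
    rfl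

lemma divCond_iff (D : Mero.Divisor X) (x : X) (g : (Mero.KStalk X x)ˣ)
    (hg : D.1 x = QuotientGroup.mk g) (t : Mero.KStalk X x) :
    Mero.DivCond D x t ↔ t * g ∈ (aK x).range := by
  refine ⟨fun h => h g hg, fun h g' hg' => ?_⟩
  obtain ⟨v, hv⟩ := germ_eq_iff.1 (hg.symm.trans hg')
  obtain ⟨r, hr⟩ := h
  exact ⟨r * v, by rw [map_mul, hr, hv, mul_assoc]⟩

/-- The value of a unit of the ring of meromorphic functions at a point. -/
noncomputable abbrev uval {U : X.Opens} (f : (Γ(Mero.kmod X, U))ˣ) (x : U) : (Mero.KStalk X x.1)ˣ :=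
  Units.map (Mero.evalK X U x).toMonoidHom f

lemma exists_local_rep (D : Mero.Divisor X) (x : X) :
    ∃ (U : X.Opens) (_ : x ∈ U) (f : (Γ(Mero.kmod X, U))ˣ),
      ∀ y : U, D.1 y.1 = QuotientGroup.mk (uval f y) :=
  D.2 x

/-- A divisor is determined by the condition cutting out `O_X(D)`. -/
theorem eq_of_divCond (D D' : Mero.Divisor X)
    (h : ∀ (U : X.Opens) (t : Γ(Mero.kmod X, U)),
      (∀ x : ↥U, Mero.DivCond D x.1 (t.1 x)) ↔ (∀ x : ↥U, Mero.DivCond D' x.1 (t.1 x))) :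
    D = D' := by
  refine Subtype.ext (funext fun x => ?_)
  obtain ⟨U, hxU, f, hf⟩ := exists_local_rep D x
  obtain ⟨U', hxU', f', hf'⟩ := exists_local_rep D' x
  have h1 : ∀ y : U, Mero.DivCond D y.1 ((↑f⁻¹ : Γ(Mero.kmod X, U)).1 y) := fun y => by
    rw [divCond_iff D y.1 _ (hf y)]
    refine ⟨1, ?_⟩
    rw [map_one]
    exact (congrFun (congrArg Subtype.val f.inv_mul) y).symm
  have h1' : ∀ y : U', Mero.DivCond D' y.1 ((↑f'⁻¹ : Γ(Mero.kmod X, U')).1 y) := fun y => by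
    rw [divCond_iff D' y.1 _ (hf' y)]
    refine ⟨1, ?_⟩
    rw [map_one]
    exact (congrFun (congrArg Subtype.val f'.inv_mul) y).symm
  obtain ⟨r, hr⟩ := (divCond_iff D' x _ (hf' ⟨x, hxU'⟩) _).1 ((h U _).1 h1 ⟨x, hxU⟩)
  obtain ⟨r', hr'⟩ := (divCond_iff D x _ (hf ⟨x, hxU⟩) _).1 ((h U' _).2 h1' ⟨x, hxU'⟩)
  have hu : r * r' = 1 := aK_injective x (by
    rw [map_mul, map_one, hr, hr']
    have e1 : (f : Γ(Mero.kmod X, U)).1 ⟨x, hxU⟩ * (↑f⁻¹ : Γ(Mero.kmod X, U)).1 ⟨x, hxU⟩ = 1 :=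
      congrFun (congrArg Subtype.val f.mul_inv) ⟨x, hxU⟩
    have e2 : (f' : Γ(Mero.kmod X, U')).1 ⟨x, hxU'⟩ * (↑f'⁻¹ : Γ(Mero.kmod X, U')).1 ⟨x, hxU'⟩ = 1 :=
      congrFun (congrArg Subtype.val f'.mul_inv) ⟨x, hxU'⟩
    show (↑f⁻¹ : Γ(Mero.kmod X, U)).1 ⟨x, hxU⟩ * (f' : Γ(Mero.kmod X, U')).1 ⟨x, hxU'⟩ *
      ((↑f'⁻¹ : Γ(Mero.kmod X, U')).1 ⟨x, hxU'⟩ * (f : Γ(Mero.kmod X, U)).1 ⟨x, hxU⟩) = 1
    calc _ = ((f : Γ(Mero.kmod X, U)).1 ⟨x, hxU⟩ * (↑f⁻¹ : Γ(Mero.kmod X, U)).1 ⟨x, hxU⟩) *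
          ((f' : Γ(Mero.kmod X, U')).1 ⟨x, hxU'⟩ * (↑f'⁻¹ : Γ(Mero.kmod X, U')).1 ⟨x, hxU'⟩) := by ring
      _ = 1 := by rw [e1, e2, one_mul])
  rw [hf ⟨x, hxU⟩, hf' ⟨x, hxU'⟩, germ_eq_iff]
  refine ⟨Units.mkOfMulEqOne r r' hu, ?_⟩
  show _ = _ * aK x r
  rw [hr]
  show (f' : Γ(Mero.kmod X, U')).1 ⟨x, hxU'⟩ = (f : Γ(Mero.kmod X, U)).1 ⟨x, hxU⟩ *
    ((↑f⁻¹ : Γ(Mero.kmod X, U)).1 ⟨x, hxU⟩ * (f' : Γ(Mero.kmod X, U')).1 ⟨x, hxU'⟩)
  rw [← mul_assoc, show (f : Γ(Mero.kmod X, U)).1 ⟨x, hxU⟩ * (↑f⁻¹ : Γ(Mero.kmod X, U)).1 ⟨x, hxU⟩ = 1 from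
    congrFun (congrArg Subtype.val f.mul_inv) ⟨x, hxU⟩, one_mul]

/-- Multiplication by a meromorphic function carrying `O_X(D)` into `O_X(D')`. -/
noncomputable def divMap (D D' : Mero.Divisor X) (c : Γ(Mero.kmod X, ⊤))
    (hc : ∀ (x : X) (t : Mero.KStalk X x), Mero.DivCond D x t →
      Mero.DivCond D' x (t * c.1 ⟨x, Opens.mem_top x⟩)) :
    Mero.divMod D ⟶ Mero.divMod D' :=
  ⟨PresheafOfModules.homMk (M₁ := (Mero.divMod D).val) (M₂ := (Mero.divMod D').val)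
    { app := fun U => AddCommGrpCat.ofHom
        { toFun := fun (t : Γ(Mero.divMod D, U.unop)) =>
            (⟨fun x => t.1 x * c.1 ⟨x.1, Opens.mem_top x.1⟩,
              Mero.kLoc_mul X U.unop t.1 _ t.2.1
                ((Mero.kLoc X).res (homOfLE le_top) c.1 c.2),
              fun x => hc x.1 _ (t.2.2 x)⟩ : Γ(Mero.divMod D', U.unop))
          map_zero' := Subtype.ext (funext fun x => zero_mul _)
          map_add' := fun t t' => Subtype.ext (funext fun x => add_mul _ _ _) }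
      naturality := by intros; rfl }
    (fun U r t => Subtype.ext (funext fun x => smul_mul_assoc (α := X.presheaf.stalk x.1) _ _ _))⟩

/-- Linearly equivalent divisors have isomorphic modules. -/
theorem nonempty_iso_of_linEquiv (D D' : Mero.Divisor X) (h : Mero.LinEquiv D D') :
    Nonempty (Mero.divMod D ≅ Mero.divMod D') := by
  obtain ⟨f, hf⟩ := h
  have key : ∀ (x : X) (t : Mero.KStalk X x), Mero.DivCond D x t ↔
      Mero.DivCond D' x (t * (f : Γ(Mero.kmod X, ⊤)).1 ⟨x, Opens.mem_top x⟩) := by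
    intro x t
    obtain ⟨g', hg'⟩ := QuotientGroup.mk_surjective (D'.1 x)
    have hD : D.1 x = QuotientGroup.mk (uval f ⟨x, Opens.mem_top x⟩ * g') := by
      rw [QuotientGroup.mk_mul, hg']
      have := congrFun (congrArg Subtype.val hf) x
      change D.1 x * (D'.1 x)⁻¹ = QuotientGroup.mk (uval f ⟨x, Opens.mem_top x⟩) at this
      rw [← this, inv_mul_cancel_right]
    rw [divCond_iff D x _ hD, divCond_iff D' x g' hg'.symm, Units.val_mul, mul_assoc]
    rfl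
  have hval : ∀ x : X, (f : Γ(Mero.kmod X, ⊤)).1 ⟨x, Opens.mem_top x⟩ *
      (↑f⁻¹ : Γ(Mero.kmod X, ⊤)).1 ⟨x, Opens.mem_top x⟩ = 1 := fun x =>
    congrFun (congrArg Subtype.val f.mul_inv) ⟨x, Opens.mem_top x⟩
  refine ⟨{
    hom := divMap D D' f fun x t ht => (key x t).1 ht
    inv := divMap D' D (↑f⁻¹) fun x t ht => (key x _).2 (by
      rw [mul_assoc, mul_comm ((↑f⁻¹ : Γ(Mero.kmod X, ⊤)).1 _), hval, mul_one]; exact ht)
    hom_inv_id := ?_
    inv_hom_id := ?_ }⟩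
  · refine Scheme.Modules.hom_ext _ _ fun U => AddCommGrpCat.hom_ext (AddMonoidHom.ext fun t => ?_)
    refine Subtype.ext (funext fun x => ?_)
    show t.1 x * _ * _ = t.1 x
    rw [mul_assoc, hval, mul_one]
  · refine Scheme.Modules.hom_ext _ _ fun U => AddCommGrpCat.hom_ext (AddMonoidHom.ext fun t => ?_)
    refine Subtype.ext (funext fun x => ?_)
    show t.1 x * _ * _ = t.1 x
    rw [mul_assoc, mul_comm ((↑f⁻¹ : Γ(Mero.kmod X, ⊤)).1 _), hval, mul_one]

/-- `O_X(D)` is invertible. -/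
theorem isInvertible_divMod (D : Mero.Divisor X) : PicF.IsInvertible (Mero.divMod D) := by
  intro x
  obtain ⟨U, hxU, f, hf⟩ := exists_local_rep D x
  have hinv : ∀ y : U, (↑f⁻¹ : Γ(Mero.kmod X, U)).1 y * (f : Γ(Mero.kmod X, U)).1 y = 1 := fun y =>
    congrFun (congrArg Subtype.val f.inv_mul) y
  let e : Γ(Mero.divMod D, U) := ⟨(↑f⁻¹ : Γ(Mero.kmod X, U)).1, (↑f⁻¹ : Γ(Mero.kmod X, U)).2,
    fun y => (divCond_iff D y.1 _ (hf y) _).2 ⟨1, by rw [map_one]; exact (hinv y).symm⟩⟩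
  let s : Γ((Mero.divMod D).restrict U.ι, ⊤) :=
    ((Mero.divMod D).restrictAppIso U.ι ⊤).inv
      ((Mero.divMod D).presheaf.map (homOfLE (U.ι_image_le ⊤)).op e)
  let φ := H29Fitt.homSec ((Mero.divMod D).restrict U.ι) s
  have happ : ∀ (W : U.toScheme.Opens) (r : Γ(U.toScheme, W)) (y : ↥(U.ι ''ᵁ W)),
      (((Mero.divMod D).restrictAppIso U.ι W).hom (φ.app W r)).1 y =
        aK y.1 (X.presheaf.germ (U.ι ''ᵁ W) y.1 y.2 ((U.ι.appIso W).inv r)) *
          (↑f⁻¹ : Γ(Mero.kmod X, U)).1 ⟨y.1, U.ι_image_le W y.2⟩ := fun W r y =>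
    Algebra.smul_def _ _
  have hiso : ∀ W : U.toScheme.Opens, Function.Bijective (φ.app W) := by
    intro W
    refine ⟨fun r r' h => (ConcreteCategory.bijective_of_isIso (U.ι.appIso W).inv).1 (section_ext fun y hy => ?_),
      fun t => ?_⟩
    · have h1 := happ W r ⟨y, hy⟩
      rw [h, happ W r' ⟨y, hy⟩] at h1
      exact aK_injective y ((IsUnit.of_mul_eq_one _ (hinv ⟨y, U.ι_image_le W hy⟩)).mul_right_cancel h1.symm)
    · let t' : Γ(Mero.divMod D, U.ι ''ᵁ W) := ((Mero.divMod D).restrictAppIso U.ι W).hom t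
      let p : Γ(Mero.kmod X, U.ι ''ᵁ W) :=
        ⟨fun y => t'.1 y * (f : Γ(Mero.kmod X, U)).1 ⟨y.1, U.ι_image_le W y.2⟩,
          Mero.kLoc_mul X _ t'.1 _ t'.2.1 ((Mero.kLoc X).res (homOfLE (U.ι_image_le W)) _ (f : Γ(Mero.kmod X, U)).2)⟩
      obtain ⟨r, hr⟩ := exists_section p fun y =>
        (divCond_iff D y.1 _ (hf ⟨y.1, U.ι_image_le W y.2⟩) _).1 (t'.2.2 y)
      refine ⟨(U.ι.appIso W).hom r, (ConcreteCategory.bijective_of_isIso
        ((Mero.divMod D).restrictAppIso U.ι W).hom).1 (Subtype.ext (funext fun y => ?_))⟩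
      rw [happ, ← ConcreteCategory.comp_apply (U.ι.appIso W).hom, Iso.hom_inv_id,
        ConcreteCategory.id_apply]
      have hy := (congrFun (congrArg Subtype.val hr) y).trans (toK_val r y)
      rw [← hy]
      show t'.1 y * _ * _ = t'.1 y
      rw [mul_assoc, mul_comm ((f : Γ(Mero.kmod X, U)).1 _), hinv, mul_one]
  have : IsIso φ := by
    rw [Scheme.Modules.Hom.isIso_iff_isIso_app]
    intro W
    rw [ConcreteCategory.isIso_iff_bijective]
    exact hiso W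
  exact ⟨U, hxU, ⟨(asIso φ).symm⟩⟩

/-- Points of the support of a divisor have positive codimension. -/
theorem one_le_dim_of_mem_supp (D : Mero.Divisor X) (z : X) (hz : z ∈ Mero.supp D) :
    (1 : WithBot ℕ∞) ≤ ringKrullDim (X.presheaf.stalk z) := by
  by_contra hlt
  apply hz
  have h0 : Ring.KrullDimLE 0 (X.presheaf.stalk z) := by
    rw [Ring.krullDimLE_iff]
    exact Order.le_of_lt_succ (not_le.mp hlt)
  have hunit : ∀ a ∈ Mero.regStalk X z, IsUnit a := fun a ha => by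
    by_contra hu
    obtain ⟨n, hn⟩ : IsNilpotent a := by
      rw [← mem_nilradical, Ring.KrullDimLE.nilradical_eq_maximalIdeal, IsLocalRing.mem_maximalIdeal]
      exact hu
    have h1 := mem_nonZeroDivisors_iff_right.mp (pow_mem (Mero.regStalk_le_nonZeroDivisors z ha) n) 1
      (by rw [one_mul, hn])
    exact one_ne_zero h1
  have hsurj : Function.Surjective (aK z) := (IsLocalization.atUnits (X.presheaf.stalk z)
    (Mero.regStalk X z) (S := Mero.KStalk X z) hunit).surjective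
  obtain ⟨g, hg⟩ := QuotientGroup.mk_surjective (D.1 z)
  rw [← hg, QuotientGroup.eq_one_iff]
  obtain ⟨r, hr⟩ := hsurj g
  obtain ⟨r', hr'⟩ := hsurj ↑g⁻¹
  have hrr : r * r' = 1 := aK_injective z (by rw [map_mul, hr, hr', Units.mul_inv, map_one])
  exact ⟨Units.mkOfMulEqOne r r' hrr, Units.ext hr⟩

/-- Pullbacks of regular sections are regular when weakly associated points map to such points. -/
theorem app_mem_regSub {Y : Scheme.{u}} (φ : X ⟶ Y)
    (h : ∀ x : X, Curv2.IsWeakAssPoint (Coh.structureModule X) x →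
      ∀ r ∈ nonZeroDivisors (Y.presheaf.stalk (φ x)), IsUnit r)
    (U : Y.Opens) (s : Γ(Y, U)) (hs : s ∈ Mero.regSub Y U) : φ.app U s ∈ Mero.regSub X (φ ⁻¹ᵁ U) := by
  intro x
  obtain ⟨W, hW, hxW, hWU⟩ := exists_isAffineOpen_mem_and_subset (X := X) (x := x.1) (U := φ ⁻¹ᵁ U) x.2
  have hWU' : W ≤ φ ⁻¹ᵁ U := hWU
  have hnzd : X.presheaf.map (homOfLE hWU').op (φ.app U s) ∈ nonZeroDivisors Γ(X, W) :=
    H29Mero.mem_nzd_of_forall hW fun y hy hw => by
      rw [germ_res hWU' _ y hy, ← Scheme.Hom.germ_stalkMap_apply φ U y (hWU' hy) s]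
      exact (h y hw _ (hs ⟨φ y, hWU' hy⟩)).map _
  have := H29Mero.germ_mem_nzd hW hnzd hxW
  rwa [germ_res] at this

/-- A weakly associated point of a reduced scheme has no proper generization. -/
theorem eq_of_specializes_of_weakAss [IsReduced X] {x : X}
    (hx : Curv2.IsWeakAssPoint (Coh.structureModule X) x) {z : X} (hz : z ⤳ x) : z = x := by
  obtain ⟨hp, m, hm⟩ := (H29Blow.isWeakAssPoint_structureModule_iff x).mp hx
  obtain ⟨q, rfl⟩ : z ∈ Set.range (X.fromSpecStalk x) := by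
    rw [Scheme.range_fromSpecStalk]; exact hz
  let q' : PrimeSpectrum (X.presheaf.stalk x) := q
  suffices q' = IsLocalRing.closedPoint _ by
    refine Eq.trans ?_ (Scheme.fromSpecStalk_closedPoint (x := x))
    exact congrArg (X.fromSpecStalk x) this
  refine PrimeSpectrum.ext (le_antisymm (IsLocalRing.le_maximalIdeal q'.2.ne_top) ?_)
  have hm0 : m ≠ 0 := fun h => (IsLocalRing.maximalIdeal.isMaximal (X.presheaf.stalk x)).ne_top (by
    rw [hm, Ideal.radical_eq_top, Ideal.eq_top_iff_one, Submodule.mem_colon_singleton, h, smul_zero]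
    exact zero_mem _)
  obtain ⟨p, hp, hmp⟩ : ∃ p ∈ minimalPrimes (X.presheaf.stalk x), m ∉ p := by
    by_contra! h
    refine hm0 ?_
    have : m ∈ nilradical (X.presheaf.stalk x) := by
      rw [nilradical, ← Ideal.sInf_minimalPrimes]
      exact Ideal.mem_sInf.mpr fun {p} hp => h p hp
    rwa [nilradical_eq_zero, Submodule.zero_eq_bot, Submodule.mem_bot] at this
  have hmp' : IsLocalRing.maximalIdeal (X.presheaf.stalk x) ≤ p := fun a ha => by
    rw [hm] at ha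
    obtain ⟨n, hn⟩ := ha
    rw [Submodule.mem_colon_singleton, Submodule.mem_bot, smul_eq_mul] at hn
    exact hp.1.1.mem_of_pow_mem n ((hp.1.1.mem_or_mem (hn ▸ p.zero_mem)).resolve_right hmp)
  have hle : p ≤ q'.asIdeal := hp.2 ⟨q'.2, bot_le⟩ ((IsLocalRing.le_maximalIdeal q'.2.ne_top).trans hmp')
  exact hmp'.trans hle

end Groth.Agent.H28Mero
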