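import Groth.Agent.H28Mero.Div
import Groth.Agent.H29Blow.PointsOfAffine

/-!
# Extending sections from schematically dense opens to meromorphic functions
-/

set_option autoImplicit false

universe u

open CategoryTheory AlgebraicGeometry TopologicalSpace Opposite

namespace Groth.Agent.H28Mero

variable {X : Scheme.{u}}

/-- Points near which only finitely many weakly associated points occur, over an affine open. -/
abbrev HasFiniteAss (X : Scheme.{u}) : Prop :=
  ∀ (O : X.Opens) (x : X), x ∈ O → ∃ W : X.Opens, IsAffineOpen W ∧ x ∈ W ∧ W ≤ O ∧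
    {y : X | y ∈ W ∧ Curv2.IsWeakAssPoint (Coh.structureModule X) y}.Finite

lemma hasFiniteAss_of_locallyNoetherian [IsLocallyNoetherian X] : HasFiniteAss X := by
  intro O x hx
  obtain ⟨W, hW, hxW, hWO⟩ := exists_isAffineOpen_mem_and_subset (X := X) (x := x) (U := O) hx
  haveI : IsNoetherianRing Γ(X, W) := IsLocallyNoetherian.component_noetherian ⟨W, hW⟩
  exact ⟨W, hW, hxW, hWO, H29Mero.finite_weakAss hW⟩

lemma finite_weakAss_of_locallyFinite [IsReduced X] {W₀ W : X.Opens} (hW : W ≤ W₀)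
    (h : {Z : Set ↥X | Z ∈ irreducibleComponents ↥X ∧ (Z ∩ (W₀ : Set ↥X)).Nonempty}.Finite) :
    {y : X | y ∈ W ∧ Curv2.IsWeakAssPoint (Coh.structureModule X) y}.Finite := by
  refine Set.Finite.of_finite_image (f := fun y => closure ({y} : Set X)) (h.subset ?_) ?_
  · rintro _ ⟨y, ⟨hy, hwk⟩, rfl⟩
    refine ⟨⟨isIrreducible_singleton.closure, fun Z hZ hle => ?_⟩, y, subset_closure rfl, hW hy⟩
    obtain ⟨η, hη⟩ := QuasiSober.sober hZ.closure isClosed_closure
    have hspec : η ⤳ y := hη.specializes (subset_closure (hle (subset_closure rfl)))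
    obtain rfl := eq_of_specializes_of_weakAss hwk hspec
    show Z ⊆ closure {η}
    rw [show closure ({η} : Set X) = closure Z from hη]
    exact subset_closure
  · intro a _ b _ hab
    exact (specializes_iff_closure_subset.mpr hab.ge).antisymm
      (specializes_iff_closure_subset.mpr hab.le) |>.eq

lemma hasFiniteAss_of_reduced [IsReduced X]
    (h : ∀ x : ↥X, ∃ W : X.Opens, x ∈ W ∧
      {Z : Set ↥X | Z ∈ irreducibleComponents ↥X ∧ (Z ∩ (W : Set ↥X)).Nonempty}.Finite) :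
    HasFiniteAss X := by
  intro O x hx
  obtain ⟨W₀, hxW₀, hfin⟩ := h x
  obtain ⟨W, hW, hxW, hWO⟩ := exists_isAffineOpen_mem_and_subset (X := X) (x := x) (U := O ⊓ W₀) ⟨hx, hxW₀⟩
  exact ⟨W, hW, hxW, fun y hy => (hWO hy).1,
    finite_weakAss_of_locallyFinite (fun y hy => (hWO hy).2) hfin⟩

/-- Schematically dense opens contain the weakly associated points. -/
theorem mem_of_weakAss (hfin : HasFiniteAss X) {U V : X.Opens} (hVU : V ≤ U)
    (hV : ∀ W : X.Opens, W ≤ U →
      Function.Injective ⇑(X.presheaf.map (homOfLE (inf_le_left : W ⊓ V ≤ W)).op))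
    {y : X} (hy : y ∈ U) (hw : Curv2.IsWeakAssPoint (Coh.structureModule X) y) : y ∈ V := by
  classical
  by_contra hyV
  obtain ⟨hp, m, hm⟩ := (H29Blow.isWeakAssPoint_structureModule_iff y).mp hw
  have hm0 : m ≠ 0 := by
    rintro rfl
    refine hp.ne_top (hm.trans ?_)
    rw [Ideal.radical_eq_top, Ideal.eq_top_iff_one, Submodule.mem_colon_singleton, smul_zero]
    exact Submodule.zero_mem _
  obtain ⟨O, hyO, a, ha⟩ := X.presheaf.exists_germ_eq m
  obtain ⟨W, hW, hyW, hWO, hT⟩ := hfin (U ⊓ O) y ⟨hy, hyO⟩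
  let P := (hW.primeIdealOf ⟨y, hyW⟩).asIdeal
  have hex : ∀ t : {t : X | t ∈ W ∧ Curv2.IsWeakAssPoint (Coh.structureModule X) t},
      ∃ g : Γ(X, W), g ∉ P ∧ (¬ t.1 ⤳ y → g ∈ (hW.primeIdealOf ⟨t.1, t.2.1⟩).asIdeal) := by
    intro t
    by_cases h : t.1 ⤳ y
    · exact ⟨1, fun h1 => (hW.primeIdealOf _).isPrime.ne_top ((Ideal.eq_top_iff_one _).mpr h1),
        fun h' => absurd h h'⟩
    · obtain ⟨g, hg1, hg2⟩ := Set.not_subset.mp
        (fun hle => h ((H29Blow.primeIdealOf_le_iff hW ⟨t.1, t.2.1⟩ ⟨y, hyW⟩).mp hle))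
      exact ⟨g, hg2, fun _ => hg1⟩
  choose g hgP hgt using hex
  haveI := hT.fintype
  let G := ∏ t, g t
  have hyG : y ∈ X.basicOpen G := (X.mem_basicOpen G y hyW).mpr (by
    by_contra hu
    obtain ⟨t, -, ht⟩ := (hW.primeIdealOf ⟨y, hyW⟩).isPrime.prod_mem_iff.mp
      ((H29Blow.mem_primeIdealOf_iff hW ⟨y, hyW⟩ G).mpr hu)
    exact hgP t ht)
  have hGle : X.basicOpen G ≤ O := fun z hz => (hWO (X.basicOpen_le G hz)).2
  have hGleU : X.basicOpen G ≤ U := fun z hz => (hWO (X.basicOpen_le G hz)).1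
  have hzero : X.presheaf.map (homOfLE hGle).op a = 0 := hV _ hGleU (by
    rw [map_zero]
    refine section_ext fun z hz => ?_
    rw [germ_res (inf_le_left : X.basicOpen G ⊓ V ≤ X.basicOpen G), germ_res, map_zero]
    by_contra hne
    obtain ⟨W', hW', hzW', hW'le⟩ :=
      exists_isAffineOpen_mem_and_subset (X := X) (x := z) (U := X.basicOpen G ⊓ V) hz
    have hle : W' ≤ O := fun w hw => hGle (hW'le hw).1
    have hne' : X.presheaf.map (homOfLE hle).op a ≠ 0 := fun h => by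
      have := congrArg (X.presheaf.germ W' z hzW') h
      rw [germ_res, map_zero] at this
      exact hne this
    obtain ⟨t, htW', htw, htne⟩ := H29Blow.exists_isWeakAssPoint_germ_ne_zero ⟨W', hW'⟩ hne'
    rw [germ_res] at htne
    have htG : t ∈ X.basicOpen G := (hW'le htW').1
    have htW : t ∈ W := X.basicOpen_le G htG
    have hty : t ⤳ y := by
      by_contra hnot
      exact (H29Blow.mem_primeIdealOf_iff hW ⟨t, htW⟩ G).mp
        (Ideal.prod_mem (s := Finset.univ) _ (Finset.mem_univ _) (hgt ⟨t, htW, htw⟩ hnot))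
        ((X.mem_basicOpen G t htW).mp htG)
    obtain ⟨s, hsy, hst⟩ : ∃ s : Γ(X, W), s ∈ P ∧ s ∉ (hW.primeIdealOf ⟨t, htW⟩).asIdeal :=
      Set.not_subset.mp fun hle' => hyV
        (((H29Blow.primeIdealOf_le_iff hW ⟨y, hyW⟩ ⟨t, htW⟩).mp hle').mem_open V.2 (hW'le htW').2)
    have h1 : X.presheaf.germ W y hyW s ∈ IsLocalRing.maximalIdeal (X.presheaf.stalk y) :=
      (IsLocalRing.mem_maximalIdeal _).mpr ((H29Blow.mem_primeIdealOf_iff hW ⟨y, hyW⟩ s).mp hsy)
    rw [hm] at h1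
    obtain ⟨n, hn⟩ := h1
    rw [Submodule.mem_colon_singleton, Submodule.mem_bot, smul_eq_mul, ← ha, ← map_pow] at hn
    have hWO' : W ≤ O := fun w hw => (hWO hw).2
    have hn' : X.presheaf.germ W y hyW (s ^ n * X.presheaf.map (homOfLE hWO').op a) =
        X.presheaf.germ W y hyW 0 := by rw [map_mul, germ_res, map_zero]; exact hn
    obtain ⟨O', hle₁, hle₂, hyO', hO'⟩ := exists_nhd_germ_eq hyW hyW _ _ hn'
    have h2 := hO' t (hty.mem_open O'.2 hyO')
    rw [map_mul, germ_res, map_zero, map_pow] at h2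
    have hu : IsUnit (X.presheaf.germ W t htW s) := by
      by_contra hu
      exact hst ((H29Blow.mem_primeIdealOf_iff hW ⟨t, htW⟩ s).mpr hu)
    exact htne ((IsUnit.mul_right_eq_zero (hu.pow n)).mp h2))
  refine hm0 ?_
  rw [← ha, ← germ_res hGle a y hyG, hzero, map_zero]

/-- A section over a schematically dense open extends to a meromorphic function. -/
theorem exists_kmod_extension (hfin : HasFiniteAss X) {U V : X.Opens} (hVU : V ≤ U)
    (hV : ∀ W : X.Opens, W ≤ U →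
      Function.Injective ⇑(X.presheaf.map (homOfLE (inf_le_left : W ⊓ V ≤ W)).op))
    (g : Γ(X, V)) :
    ∃ s : Γ(Mero.kmod X, U), (Mero.kmod X).presheaf.map (homOfLE hVU).op s = Mero.toK X V g := by
  classical
  have hloc : ∀ x : U, ∃ (W : X.Opens) (hWU : W ≤ U) (_ : x.1 ∈ W) (s : Γ(Mero.kmod X, W)),
      ∀ z (hzW : z ∈ W) (hzV : z ∈ V), s.1 ⟨z, hzW⟩ = aK z (X.presheaf.germ V z hzV g) := by
    intro x
    obtain ⟨W, hW, hxW, hWU, hT⟩ := hfin U x.1 x.2
    haveI := hT.fintype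
    let I : Ideal Γ(X, W) := ⨅ z : {z : W // z.1 ∉ V}, (hW.primeIdealOf z.1).asIdeal
    have hI : ∀ b, b ∈ I → X.basicOpen b ≤ V := fun b hb z hz => by
      by_contra hzV
      have hzW := X.basicOpen_le b hz
      exact (H29Blow.mem_primeIdealOf_iff hW ⟨z, hzW⟩ b).mp
        ((Ideal.mem_iInf.mp hb) ⟨⟨z, hzW⟩, hzV⟩) ((X.mem_basicOpen b z hzW).mp hz)
    have hnot : ∀ t : {y : X | y ∈ W ∧ Curv2.IsWeakAssPoint (Coh.structureModule X) y},
        ¬ I ≤ (hW.primeIdealOf ⟨t.1, t.2.1⟩).asIdeal := by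
      intro t hle
      obtain ⟨c, hc, htc⟩ := hW.exists_basicOpen_le (V := V)
        ⟨t.1, mem_of_weakAss hfin hVU hV (hWU t.2.1) t.2.2⟩ t.2.1
      refine (H29Blow.mem_primeIdealOf_iff hW ⟨t.1, t.2.1⟩ c).mp (hle ?_)
        ((X.mem_basicOpen c t.1 t.2.1).mp htc)
      refine Ideal.mem_iInf.mpr fun z => (H29Blow.mem_primeIdealOf_iff hW z.1 c).mpr fun hu => ?_
      exact z.2 (hc ((X.mem_basicOpen c z.1.1 z.1.2).mpr hu))
    obtain ⟨b, hbI, hb⟩ : ∃ b ∈ I,
        ∀ t : {y : X | y ∈ W ∧ Curv2.IsWeakAssPoint (Coh.structureModule X) y},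
          b ∉ (hW.primeIdealOf ⟨t.1, t.2.1⟩).asIdeal := by
      by_contra! hc
      have hsub : (I : Set Γ(X, W)) ⊆
          ⋃ t ∈ (Set.univ : Set {y : X | y ∈ W ∧ Curv2.IsWeakAssPoint (Coh.structureModule X) y}),
          ((hW.primeIdealOf ⟨t.1, t.2.1⟩).asIdeal : Set Γ(X, W)) := fun b hb => by
        obtain ⟨t, ht⟩ := hc b hb
        exact Set.mem_iUnion₂.mpr ⟨t, Set.mem_univ _, ht⟩
      rcases isEmpty_or_nonempty {y : X | y ∈ W ∧ Curv2.IsWeakAssPoint (Coh.structureModule X) y} with h0 | ⟨⟨t₀⟩⟩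
      · obtain ⟨t, -⟩ := hc 0 I.zero_mem
        exact h0.false t
      · obtain ⟨t, -, hle⟩ := (Ideal.subset_union_prime_finite Set.finite_univ t₀ t₀
          (fun t _ _ _ => (hW.primeIdealOf ⟨t.1, t.2.1⟩).isPrime)).mp hsub
        exact hnot t hle
    have hbn : b ∈ nonZeroDivisors Γ(X, W) := H29Mero.mem_nzd_of_forall hW fun y hy hw => by
      by_contra hu
      exact hb ⟨y, hy, hw⟩ ((H29Blow.mem_primeIdealOf_iff hW ⟨y, hy⟩ b).mpr hu)
    haveI := hW.isLocalization_basicOpen b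
    obtain ⟨⟨a, ⟨_, n, rfl⟩⟩, ha⟩ := IsLocalization.surj (Submonoid.powers b)
      (X.presheaf.map (homOfLE (hI b hbI)).op g)
    letI := (Mero.toK X W).toAlgebra
    haveI := H29Mero.isLocalization_toK hW hT
    let s : Γ(Mero.kmod X, W) := IsLocalization.mk' Γ(Mero.kmod X, W) a
      (⟨b ^ n, pow_mem hbn n⟩ : nonZeroDivisors Γ(X, W))
    have hs : s * Mero.toK X W (b ^ n) = Mero.toK X W a := IsLocalization.mk'_spec _ a _
    refine ⟨W, hWU, hxW, s, fun z hzW hzV => ?_⟩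
    have e1 := congrFun (congrArg Subtype.val hs) ⟨z, hzW⟩
    rw [Mero.kmod_mul_apply, toK_val, toK_val] at e1
    have hunit : IsUnit (aK z (X.presheaf.germ W z hzW (b ^ n))) :=
      regular_isUnit ⟨b ^ n, fun w => H29Mero.germ_mem_nzd hW (pow_mem hbn n) w.2⟩ z hzW
    refine hunit.mul_right_cancel (e1.trans ?_)
    rw [← map_mul]
    congr 1
    obtain ⟨W', hW', hzW', hW'le⟩ :=
      exists_isAffineOpen_mem_and_subset (X := X) (x := z) (U := W ⊓ V) ⟨hzW, hzV⟩
    have h1 : W' ≤ W := fun w hw => (hW'le hw).1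
    have h2 : W' ≤ V := fun w hw => (hW'le hw).2
    let c : Γ(X, W') := X.presheaf.map (homOfLE h2).op g * X.presheaf.map (homOfLE h1).op (b ^ n) -
      X.presheaf.map (homOfLE h1).op a
    obtain ⟨N, hN⟩ := exists_pow_mul_eq_zero_of_res_basicOpen_eq_zero_of_isCompact X hW'.isCompact c
      (X.presheaf.map (homOfLE h1).op b) (section_ext fun w hw => by
        have hwW' := X.basicOpen_le _ hw
        have hwb : w ∈ X.basicOpen b := by
          have hu := (X.mem_basicOpen _ w hwW').mp hw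
          rw [germ_res] at hu
          exact (X.mem_basicOpen b w (h1 hwW')).mpr hu
        have ha' := congrArg (X.presheaf.germ (X.basicOpen b) w hwb) ha
        simp only [RingHom.algebraMap_toAlgebra, map_mul] at ha'
        erw [germ_res, germ_res, germ_res] at ha'
        rw [map_zero]
        erw [germ_res]
        simp only [c, map_sub, map_mul, germ_res]
        exact sub_eq_zero.mpr ha')
    have h3 := congrArg (X.presheaf.germ W' z hzW') hN
    simp only [c, map_mul, map_sub, map_zero, map_pow, germ_res] at h3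
    have h4 := mem_nonZeroDivisors_iff_left.mp (pow_mem (H29Mero.germ_mem_nzd hW hbn hzW) N) _ h3
    rw [map_pow]
    exact (sub_eq_zero.mp h4).symm
  choose W hWU hxW s hs using hloc
  have hcomp : ∀ (x x' : U) (y : X) (hy : y ∈ W x) (hy' : y ∈ W x'),
      (s x).1 ⟨y, hy⟩ = (s x').1 ⟨y, hy'⟩ := by
    intro x x' y hy hy'
    have hinj := kmod_map_injective (W x ⊓ W x') ((W x ⊓ W x') ⊓ V) inf_le_left (fun O hO => by
      have e : O ⊓ ((W x ⊓ W x') ⊓ V) = O ⊓ V := by rw [← inf_assoc, inf_eq_left.mpr hO]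
      intro c c' hcc
      refine hV O (hO.trans (inf_le_left.trans (hWU x))) (section_ext fun w hw => ?_)
      have hw' : w ∈ O ⊓ ((W x ⊓ W x') ⊓ V) := e ▸ hw
      have := congrArg (X.presheaf.germ _ w hw') hcc
      rw [germ_res, germ_res] at this
      rw [germ_res, germ_res]
      exact this)
    have key : (Mero.kmod X).presheaf.map (homOfLE (inf_le_left : W x ⊓ W x' ≤ W x)).op (s x) =
        (Mero.kmod X).presheaf.map (homOfLE (inf_le_right : W x ⊓ W x' ≤ W x')).op (s x') :=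
      hinj (Subtype.ext (funext fun z => (hs x z.1 z.2.1.1 z.2.2).trans (hs x' z.1 z.2.1.2 z.2.2).symm))
    exact congrFun (congrArg Subtype.val key) ⟨y, hy, hy'⟩
  refine ⟨⟨fun x => (s x).1 ⟨x.1, hxW x⟩, fun x => ?_⟩, Subtype.ext (funext fun z => ?_)⟩
  · obtain ⟨O, m, i, a, b, w⟩ := (s x).2 ⟨x.1, hxW x⟩
    refine ⟨O, m, i ≫ homOfLE (hWU x), a, b, fun y => ?_⟩
    exact (hcomp ⟨y.1, hWU x (i.le y.2)⟩ x y.1 (hxW _) (i.le y.2)).trans (w y)
  · exact (hs ⟨z.1, hVU z.2⟩ z.1 (hxW _) z.2).trans (toK_val g z).symm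

end Groth.Agent.H28Mero
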