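import Groth.Agent.H28Mero.Gen

/-!
# Torsion-free modules and meromorphic functions at generic points
-/

set_option autoImplicit false

universe u

open CategoryTheory AlgebraicGeometry TopologicalSpace Opposite IsLocalRing

namespace Groth.Agent.H28Mero

variable {X : Scheme.{u}}

lemma app_injective_of_mono {M N : X.Modules} (f : M ⟶ N) [hf : Mono f] (U : X.Opens) :
    Function.Injective (f.app U) := by
  haveI : Mono ((Scheme.Modules.toPresheaf X).map f) := inferInstance
  haveI : Mono (((Scheme.Modules.toPresheaf X).map f).app (op U)) := inferInstance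
  exact (AddCommGrpCat.mono_iff_injective _).mp this

lemma kmk_congr {x : X} {a a' : X.presheaf.stalk x} {s s' : Mero.regStalk X x} (h : a = a')
    (h' : (s : X.presheaf.stalk x) = s') :
    (LocalizedModule.mk a s : Mero.KStalk X x) = LocalizedModule.mk a' s' := by
  obtain rfl := Subtype.ext h'
  rw [h]

lemma kres {W V : X.Opens} (h : W ≤ V) (a : Γ(X, V)) (b : Mero.regSub X V) (y : X) (hy : y ∈ W) :
    (LocalizedModule.mk (X.presheaf.germ W y hy (X.presheaf.map (homOfLE h).op a))
      (Mero.regGerm ⟨y, hy⟩ ⟨_, Mero.regSub_res (homOfLE h) b.2⟩) : Mero.KStalk X y) =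
    LocalizedModule.mk (X.presheaf.germ V y (h hy) a) (Mero.regGerm ⟨y, h hy⟩ b) :=
  kmk_congr (germ_res h a y hy) (germ_res h b.1 y hy)

lemma regular_isUnit_of_assPoint {x : X} (hx : IsAssociatedPrime (maximalIdeal (X.presheaf.stalk x)) (X.presheaf.stalk x))
    {r : X.presheaf.stalk x} (hr : r ∈ Mero.regStalk X x) : IsUnit r :=
  H29Mero.isUnit_of_weakAss ((H29Blow.isWeakAssPoint_structureModule_iff x).mpr hx)
    (Mero.regStalk_le_nonZeroDivisors x hr)

theorem mono_toMer_iff [IsLocallyNoetherian X] (F : X.Modules) (hF : Coh.IsQCoh F) :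
    Mono (Mero.toMer F) ↔
      ∀ x : ↥X, Curv2.IsAssPoint F x →
        IsAssociatedPrime (maximalIdeal ↑(X.presheaf.stalk x)) ↑(X.presheaf.stalk x) := by
  constructor
  · intro hmono x hx
    by_contra hnot
    obtain ⟨a, hu, ha⟩ : ∃ a, ¬ IsUnit a ∧ a ∈ nonZeroDivisors (X.presheaf.stalk x) := by
      by_contra! h
      obtain ⟨p, hp, hle⟩ := H4Depth.exists_associatedPrime_ge_of_no_regular
        (R := X.presheaf.stalk x) (M := X.presheaf.stalk x) (I := maximalIdeal (X.presheaf.stalk x))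
        fun a ha hreg => h a ((mem_maximalIdeal a).mp ha) (mem_nonZeroDivisors_iff_right.mpr fun s hs =>
          hreg (show a * s = a * 0 by rw [mul_comm, hs, mul_zero]))
      refine hnot ?_
      rwa [le_antisymm hle (IsLocalRing.le_maximalIdeal (IsAssociatedPrime.isPrime hp).ne_top)]
    obtain ⟨hp, m₀, hm⟩ := hx
    have hm0 : m₀ ≠ 0 := by
      rintro rfl
      refine hp.ne_top (hm.trans ?_)
      rw [Ideal.radical_eq_top, Ideal.eq_top_iff_one, Submodule.mem_colon_singleton, smul_zero]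
      exact Submodule.zero_mem _
    have hm' : a ∈ maximalIdeal (X.presheaf.stalk x) := (mem_maximalIdeal a).mpr hu
    rw [hm] at hm'
    obtain ⟨n, hn⟩ := hm'
    rw [Submodule.mem_colon_singleton, Submodule.mem_bot] at hn
    rw [← regStalk_eq_nzd] at ha
    obtain ⟨T, hxT, a₀, ha₀, hga⟩ := pow_mem ha n
    obtain ⟨V, hxV, s, rfl⟩ := F.presheaf.germ_exist m₀
    have h3 : x ∈ T ⊓ V := ⟨hxT, hxV⟩
    obtain ⟨O, hxO, i, j, hO⟩ := F.presheaf.germ_eq x h3 h3
      (X.presheaf.map (homOfLE (inf_le_left : T ⊓ V ≤ T)).op a₀ •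
        F.presheaf.map (homOfLE (inf_le_right : T ⊓ V ≤ V)).op s) 0
      (by
        rw [Mero.germ_smul, X.presheaf.germ_res_apply, F.presheaf.germ_res_apply]
        exact ((congrArg (· • _) hga).trans hn).trans (map_zero _).symm)
    obtain rfl : i = j := Subsingleton.elim _ _
    have hleV : O ≤ V := i.le.trans inf_le_right
    have hzero : (Mero.toMer F).app O (F.presheaf.map (homOfLE hleV).op s) = 0 := by
      refine Subtype.ext (funext fun y => ?_)
      show LocalizedModule.mk _ 1 = 0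
      rw [← LocalizedModule.zero_mk (1 : Mero.regStalk X y.1)]
      refine LocalizedModule.mk_eq.mpr
        ⟨Mero.regGerm ⟨y.1, (i.le y.2).1⟩ ⟨a₀, ha₀⟩, ?_⟩
      simp only [Submonoid.smul_def, OneMemClass.coe_one, one_smul, smul_zero]
      have h1 := congrArg (F.presheaf.germ O y.1 y.2) hO
      rw [F.presheaf.germ_res_apply, Mero.germ_smul, X.presheaf.germ_res_apply, F.presheaf.germ_res_apply,
        map_zero, map_zero] at h1
      rw [F.presheaf.germ_res_apply]
      exact h1
    have hinj : Function.Injective ((Mero.toMer F).app O) := app_injective_of_mono (hf := hmono) _ O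
    refine hm0 ?_
    rw [← F.presheaf.germ_res_apply (homOfLE hleV) x hxO s,
      hinj (hzero.trans (map_zero _).symm), map_zero]
  · intro h
    refine ⟨fun {G} u v huv => Scheme.Modules.hom_ext _ _ fun V => ?_⟩
    ext g
    have hker : ∀ (m : Γ(F, V)), (Mero.toMer F).app V m = 0 → m = 0 := by
      intro m hm
      refine H29Blow.eq_zero_of_germ_eq_zero F hF fun y hy hw => ?_
      have h1 : (LocalizedModule.mk (F.presheaf.germ V y hy m) 1 : Mero.MStalk F y) =
          LocalizedModule.mk 0 1 :=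
        (congrFun (congrArg Subtype.val hm) ⟨y, hy⟩).trans (LocalizedModule.zero_mk _).symm
      obtain ⟨⟨c, hc⟩, hc0⟩ := LocalizedModule.mk_eq.mp h1
      simp only [Submonoid.smul_def, OneMemClass.coe_one, one_smul, smul_zero] at hc0
      have hcu := regular_isUnit_of_assPoint (h y ((H29Blow.isAssPoint_iff_isWeakAssPoint F y).mpr hw)) hc
      exact (hcu.smul_eq_zero).mp hc0
    refine sub_eq_zero.mp (hker _ ?_)
    rw [map_sub, sub_eq_zero]
    exact congr($(congrArg (fun φ : G ⟶ Mero.merMod F => φ.app V) huv) g)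

/-- The generic points of components of a reduced scheme are its weakly associated points. -/
lemma weakAss_of_component {x : X} (hx : closure ({x} : Set X) ∈ irreducibleComponents (X : Type u)) :
    Curv2.IsWeakAssPoint (Coh.structureModule X) x := by
  have hmax : ∀ z : X, z ⤳ x → z = x := fun z hz =>
    (hz.antisymm (specializes_iff_closure_subset.mpr (hx.2 isIrreducible_singleton.closure
      (specializes_iff_closure_subset.mp hz)))).eq
  obtain ⟨V, hV, hxV, -⟩ := exists_isAffineOpen_mem_and_subset (U := (⊤ : X.Opens)) (x := x) trivial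
  let one : Γ(Coh.structureModule X, V) := (1 : Γ(X, V))
  have hann : H29Blow.secAnn (Coh.structureModule X) one = ⊥ := eq_bot_iff.mpr fun a ha =>
    (mul_one a).symm.trans ((H29Blow.mem_secAnn _).mp ha)
  exact H29Blow.isWeakAssPoint_of_minimalPrimes _ (H29Blow.isQCoh_structureModule X) hV ⟨x, hxV⟩ one
    (by rw [hann]; exact (H29Blow.minimalPrimes_iff_maximal_point hV ⟨x, hxV⟩).mpr hmax)

lemma component_of_weakAss [IsReduced X] {y : X} (hw : Curv2.IsWeakAssPoint (Coh.structureModule X) y) :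
    closure ({y} : Set X) ∈ irreducibleComponents (X : Type u) := by
  refine ⟨isIrreducible_singleton.closure, fun Z hZ hle => ?_⟩
  obtain ⟨η, hη⟩ := QuasiSober.sober hZ.closure isClosed_closure
  have hspec : η ⤳ y := hη.specializes (subset_closure (hle (subset_closure rfl)))
  obtain rfl := eq_of_specializes_of_weakAss hw hspec
  show Z ⊆ closure {η}
  rw [show closure ({η} : Set X) = closure Z from hη]
  exact subset_closure

lemma isField_stalk_of_weakAss [IsReduced X] {x : X} (hx : Curv2.IsWeakAssPoint (Coh.structureModule X) x) :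
    IsField (X.presheaf.stalk x) := by
  rw [IsLocalRing.isField_iff_maximalIdeal_eq, eq_bot_iff]
  intro r hr
  exact (H29Mero.isNilpotent_of_maximal (fun z hz => eq_of_specializes_of_weakAss hx hz)
    ((mem_maximalIdeal r).mp hr)).eq_zero

lemma bijective_aK_of_weakAss {x : X} (hx : Curv2.IsWeakAssPoint (Coh.structureModule X) x) :
    Function.Bijective (aK x) :=
  ⟨aK_injective x, (IsLocalization.atUnits (X.presheaf.stalk x) (Mero.regStalk X x)
    (S := Mero.KStalk X x) fun _ hr =>
      H29Mero.isUnit_of_weakAss hx (Mero.regStalk_le_nonZeroDivisors x hr)).surjective⟩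

/-- Meromorphic functions on a reduced scheme are determined at, and arbitrary at, the generic points. -/
theorem bijective_evalGeneric [IsReduced X] (hfin : (irreducibleComponents (X : Type u)).Finite)
    (U : X.Opens) :
    Function.Bijective (fun s : Γ(Mero.kmod X, U) =>
      fun x : {x : U // closure ({x.1} : Set X) ∈ irreducibleComponents (X : Type u)} =>
        Mero.evalK X U x.1 s) := by
  classical
  have hgen : ∀ y : X, Curv2.IsWeakAssPoint (Coh.structureModule X) y → ∀ z : X, z ⤳ y → z = y :=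
    fun y hy z hz => eq_of_specializes_of_weakAss hy hz
  have hfinA : ∀ A : X.Opens, {y : X | y ∈ A ∧ Curv2.IsWeakAssPoint (Coh.structureModule X) y}.Finite :=
    fun A => finite_weakAss_of_locallyFinite (W₀ := ⊤) le_top (hfin.subset fun Z hZ => hZ.1)
  have hagree : ∀ {W : X.Opens} (a a' : Γ(X, W)) (b b' : Mero.regSub X W),
      (∀ (y : X) (hy : y ∈ W), Curv2.IsWeakAssPoint (Coh.structureModule X) y →
        (LocalizedModule.mk (X.presheaf.germ W y hy a) (Mero.regGerm ⟨y, hy⟩ b) : Mero.KStalk X y) =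
          LocalizedModule.mk (X.presheaf.germ W y hy a') (Mero.regGerm ⟨y, hy⟩ b')) →
      ∀ (x : X) (hx : x ∈ W),
        (LocalizedModule.mk (X.presheaf.germ W x hx a) (Mero.regGerm ⟨x, hx⟩ b) : Mero.KStalk X x) =
          LocalizedModule.mk (X.presheaf.germ W x hx a') (Mero.regGerm ⟨x, hx⟩ b') := by
    intro W a a' b b' h x hx
    obtain ⟨A, hA, hxA, hAW'⟩ := exists_isAffineOpen_mem_and_subset (U := W) (x := x) hx
    have hAW : A ≤ W := hAW'
    have h0 : X.presheaf.map (homOfLE hAW).op (b'.1 * a - b.1 * a') = 0 := by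
      by_contra hne
      obtain ⟨y, hy, hw, hg⟩ := H29Blow.exists_isWeakAssPoint_germ_ne_zero ⟨A, hA⟩ hne
      obtain ⟨⟨c, hc⟩, hcc⟩ := LocalizedModule.mk_eq.mp (h y (hAW hy) hw)
      simp only [Submonoid.smul_def, smul_eq_mul] at hcc
      have hu := H29Mero.isUnit_of_weakAss hw (Mero.regStalk_le_nonZeroDivisors y hc)
      apply hg
      rw [germ_res hAW, map_sub, map_mul, map_mul, sub_eq_zero]
      exact hu.mul_left_cancel hcc
    have h1 := congrArg (X.presheaf.germ A x hxA) h0
    rw [germ_res hAW, map_zero, map_sub, map_mul, map_mul, sub_eq_zero] at h1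
    refine LocalizedModule.mk_eq.mpr ⟨1, ?_⟩
    simp only [Submonoid.smul_def, OneMemClass.coe_one, one_smul, smul_eq_mul]
    exact h1
  refine ⟨fun s s' h => Subtype.ext (funext fun x => ?_), fun c => ?_⟩
  · obtain ⟨V, m, i, a, b, w⟩ := s.2 x
    obtain ⟨V', m', i', a', b', w'⟩ := s'.2 x
    let W := V ⊓ V'
    have key := hagree (W := W) (X.presheaf.map (homOfLE (inf_le_left : W ≤ V)).op a)
      (X.presheaf.map (homOfLE (inf_le_right : W ≤ V')).op a')
      ⟨_, Mero.regSub_res (homOfLE (inf_le_left : W ≤ V)) b.2⟩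
      ⟨_, Mero.regSub_res (homOfLE (inf_le_right : W ≤ V')) b'.2⟩
      (fun y hy hw => by
        have e : s.1 ⟨y, i.le hy.1⟩ = s'.1 ⟨y, i.le hy.1⟩ :=
          congrFun h ⟨⟨y, i.le hy.1⟩, component_of_weakAss hw⟩
        exact (kres (inf_le_left : W ≤ _) a b y hy).trans
          (((w ⟨y, hy.1⟩).symm.trans (e.trans (w' ⟨y, hy.2⟩))).trans (kres (inf_le_right : W ≤ _) a' b' y hy).symm))
      x.1 ⟨m, m'⟩
    exact (w ⟨x.1, m⟩).trans (((kres (inf_le_left : W ≤ _) a b x.1 ⟨m, m'⟩).symm.trans
      key).trans ((kres (inf_le_right : W ≤ _) a' b' x.1 ⟨m, m'⟩).trans (w' ⟨x.1, m'⟩).symm))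
  · have hloc : ∀ x : U, ∃ (A : X.Opens) (hAU : A ≤ U) (_ : x.1 ∈ A) (a : Γ(X, A)) (b : Mero.regSub X A),
        ∀ (y : X) (hy : y ∈ A) (hw : Curv2.IsWeakAssPoint (Coh.structureModule X) y),
          (LocalizedModule.mk (X.presheaf.germ A y hy a) (Mero.regGerm ⟨y, hy⟩ b) : Mero.KStalk X y) =
            c ⟨⟨y, hAU hy⟩, component_of_weakAss hw⟩ := by
      intro x
      obtain ⟨A, hA, hxA, hAU'⟩ := exists_isAffineOpen_mem_and_subset (U := U) (x := x.1) x.2
      have hAU : A ≤ U := hAU'
      let T := {y : X | y ∈ A ∧ Curv2.IsWeakAssPoint (Coh.structureModule X) y}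
      have hT : T.Finite := hfinA A
      haveI := hT.fintype
      have hc : ∀ y : T, ∃ a b : Γ(X, A), IsUnit (X.presheaf.germ A y.1 y.2.1 b) ∧
          aK y.1 (X.presheaf.germ A y.1 y.2.1 a) =
            c ⟨⟨y.1, hAU y.2.1⟩, component_of_weakAss y.2.2⟩ * aK y.1 (X.presheaf.germ A y.1 y.2.1 b) := by
        intro y
        obtain ⟨r, hr⟩ := (bijective_aK_of_weakAss y.2.2).2 (c ⟨⟨y.1, hAU y.2.1⟩, component_of_weakAss y.2.2⟩)
        letI := TopCat.Presheaf.algebra_section_stalk X.presheaf (⟨y.1, y.2.1⟩ : A)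
        haveI := hA.isLocalization_stalk ⟨y.1, y.2.1⟩
        obtain ⟨⟨a, b⟩, hab⟩ := IsLocalization.surj (hA.primeIdealOf ⟨y.1, y.2.1⟩).asIdeal.primeCompl r
        have hb : IsUnit (X.presheaf.germ A y.1 y.2.1 (b : Γ(X, A))) := IsLocalization.map_units _ b
        refine ⟨a, b, hb, ?_⟩
        rw [← hr, ← map_mul]
        exact congrArg (aK y.1) hab.symm
      choose a b hbu hab using hc
      have hsep : ∀ y z : T, y ≠ z → ∃ h : Γ(X, A), IsUnit (X.presheaf.germ A y.1 y.2.1 h) ∧
          X.presheaf.germ A z.1 z.2.1 h = 0 := by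
        intro y z hne
        have : ¬ (hA.primeIdealOf ⟨z.1, z.2.1⟩).asIdeal ≤ (hA.primeIdealOf ⟨y.1, y.2.1⟩).asIdeal :=
          fun hle => hne (Subtype.ext (hgen y.1 y.2.2 z.1
            ((H29Blow.primeIdealOf_le_iff hA ⟨z.1, z.2.1⟩ ⟨y.1, y.2.1⟩).mp hle)).symm)
        obtain ⟨h, hz, hy⟩ := Set.not_subset.mp this
        refine ⟨h, by_contra fun hu => hy ((H29Blow.mem_primeIdealOf_iff hA ⟨y.1, y.2.1⟩ h).mpr hu), ?_⟩
        exact (H29Mero.isNilpotent_of_maximal (hgen z.1 z.2.2)
          ((H29Blow.mem_primeIdealOf_iff hA ⟨z.1, z.2.1⟩ h).mp hz)).eq_zero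
      choose hh hu h0 using hsep
      let H : T → Γ(X, A) := fun y => ∏ z : T, if hz : y ≠ z then hh y z hz else 1
      have hHu : ∀ y : T, IsUnit (X.presheaf.germ A y.1 y.2.1 (H y)) := fun y => by
        rw [map_prod, IsUnit.prod_iff]
        intro z _
        by_cases hz : y ≠ z
        · rw [dif_pos hz]; exact hu y z hz
        · rw [dif_neg hz, map_one]; exact isUnit_one
      have hH0 : ∀ y z : T, y ≠ z → X.presheaf.germ A z.1 z.2.1 (H y) = 0 := fun y z hne => by
        rw [map_prod]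
        exact Finset.prod_eq_zero (Finset.mem_univ z) (by rw [dif_pos hne]; exact h0 y z hne)
      have hval : ∀ (φ : T → Γ(X, A)) (z : T), X.presheaf.germ A z.1 z.2.1 (∑ y, H y * φ y) =
          X.presheaf.germ A z.1 z.2.1 (H z) * X.presheaf.germ A z.1 z.2.1 (φ z) := fun φ z => by
        rw [map_sum, Finset.sum_eq_single z (fun y _ hne => by rw [map_mul, hH0 y z hne, zero_mul])
          (by simp), map_mul]
      have hbn : (∑ y, H y * b y) ∈ nonZeroDivisors Γ(X, A) :=
        H29Mero.mem_nzd_of_forall hA fun y hy hw =>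
          (hval b ⟨y, hy, hw⟩).symm ▸ (hHu ⟨y, hy, hw⟩).mul (hbu ⟨y, hy, hw⟩)
      refine ⟨A, hAU, hxA, ∑ y, H y * a y,
        ⟨∑ y, H y * b y, fun y => H29Mero.germ_mem_nzd hA hbn y.2⟩, fun y hy hw => ?_⟩
      refine (((hval b ⟨y, hy, hw⟩).symm ▸ (hHu ⟨y, hy, hw⟩).mul (hbu ⟨y, hy, hw⟩)).map (aK y)).mul_right_cancel ?_
      refine (mk_mul y _ _).trans ?_
      rw [hval a ⟨y, hy, hw⟩, map_mul, hab ⟨y, hy, hw⟩]
      show _ = _ * aK y (X.presheaf.germ A y hy (∑ y, H y * b y))
      rw [hval b ⟨y, hy, hw⟩, map_mul]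
      ring
    choose A hAU hxA a b hab using hloc
    let f : ∀ x : U, Mero.KStalk X x.1 := fun x =>
      LocalizedModule.mk (X.presheaf.germ (A x) x.1 (hxA x) (a x)) (Mero.regGerm ⟨x.1, hxA x⟩ (b x))
    have hpred : (Mero.kLoc X).pred f := by
      intro x
      refine ⟨A x, hxA x, homOfLE (hAU x), a x, b x, fun y => ?_⟩
      let x' : U := ⟨y.1, hAU x y.2⟩
      let W : X.Opens := A x' ⊓ A x
      have key := hagree (W := W) (X.presheaf.map (homOfLE (inf_le_left : W ≤ A x')).op (a x'))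
        (X.presheaf.map (homOfLE (inf_le_right : W ≤ A x)).op (a x))
        ⟨_, Mero.regSub_res (homOfLE (inf_le_left : W ≤ A x')) (b x').2⟩
        ⟨_, Mero.regSub_res (homOfLE (inf_le_right : W ≤ A x)) (b x).2⟩
        (fun z hz hw => (kres (inf_le_left : W ≤ _) (a x') (b x') z hz).trans
          ((hab x' z hz.1 hw).trans ((hab x z hz.2 hw).symm.trans (kres (inf_le_right : W ≤ _) (a x) (b x) z hz).symm)))
        y.1 ⟨hxA x', y.2⟩
      exact ((kres (inf_le_left : W ≤ _) (a x') (b x') y.1 ⟨hxA x', y.2⟩).symm.trans key).trans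
        (kres (inf_le_right : W ≤ _) (a x) (b x) y.1 ⟨hxA x', y.2⟩)
    refine ⟨⟨f, hpred⟩, funext fun x => ?_⟩
    exact hab x.1 x.1.1 (hxA x.1) (weakAss_of_component x.2)

end Groth.Agent.H28Mero
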