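import Groth.Agent.H28Mero.Ext
import Groth.Agent.H29Mero.RegularSection

/-!
# Regular meromorphic sections of invertible modules and divisors
-/

set_option autoImplicit false

universe u

open CategoryTheory AlgebraicGeometry TopologicalSpace Opposite

namespace Groth.Agent.H28Mero

variable {X : Scheme.{u}} (L : X.Modules)

/-- `g` in the stalk ring of meromorphic functions times a germ of `L`. -/
lemma aK_smul_mk (x : X) (r : X.presheaf.stalk x) (m : L.presheaf.stalk x) :
    aK x r • (LocalizedModule.mk m 1 : Mero.MStalk L x) = LocalizedModule.mk (r • m) 1 := by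
  rw [algebraMap_smul, LocalizedModule.smul'_mk]

lemma eq_zero_of_smul_mk {x : X} {ε : L.presheaf.stalk x}
    (hε : Function.Injective fun r : X.presheaf.stalk x => r • ε) {q : Mero.KStalk X x}
    (h : q • (LocalizedModule.mk ε 1 : Mero.MStalk L x) = 0) : q = 0 := by
  induction q using LocalizedModule.induction_on with
  | h r t =>
    replace h := (LocalizedModule.mk_smul_mk _ _ _ _).symm.trans h
    obtain ⟨⟨u, hu⟩, hu0⟩ := LocalizedModule.mk_eq.mp
      (h.trans (LocalizedModule.zero_mk (1 : Mero.regStalk X x)).symm)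
    simp only [Submonoid.smul_def, OneMemClass.coe_one, one_smul, smul_zero, smul_smul] at hu0
    rw [(mem_nonZeroDivisors_iff.mp (Mero.regStalk_le_nonZeroDivisors x hu)).1 r
      (hε (hu0.trans (zero_smul _ _).symm)), LocalizedModule.zero_mk]

/-- An element of the stalk ring at a point of the support of a generator is a unit when regular. -/
abbrev IsGen {V : X.Opens} (e : Γ(L, V)) : Prop :=
  ∀ (y : X) (hy : y ∈ V), Function.Bijective fun r : X.presheaf.stalk y => r • L.presheaf.germ V y hy e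

variable (s : Γ(Mero.merMod L, ⊤)) (hs : Mero.IsRegularMero L s)

include hs in
/-- Near every point a regular meromorphic section is a unit times a generator. -/
theorem exists_unit_frame (hL : PicF.IsInvertible L) (x : X) :
    ∃ (U : X.Opens) (_ : x ∈ U) (f : (Γ(Mero.kmod X, U))ˣ) (e : Γ(L, U)), IsGen L e ∧
      ∀ y : U, s.1 ⟨y.1, trivial⟩ = ((f : Γ(Mero.kmod X, U)).1 y) •
        (LocalizedModule.mk (L.presheaf.germ U y.1 y.2 e) 1 : Mero.MStalk L y.1) := by
  obtain ⟨V, e, hxV, he⟩ := H29Mero.exists_generator hL x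
  obtain ⟨V₁, m, i, m₀, b, w⟩ := s.2 ⟨x, trivial⟩
  obtain ⟨r, hr⟩ := (he x hxV).2 (L.presheaf.germ V₁ x m m₀)
  obtain ⟨T, hxT, r₀, rfl⟩ := X.presheaf.exists_germ_eq r
  have hx3 : x ∈ T ⊓ (V ⊓ V₁) := ⟨hxT, hxV, m⟩
  obtain ⟨U, hxU, i₁, i₂, hU⟩ := L.presheaf.germ_eq x hx3 m
    (X.presheaf.map (homOfLE (inf_le_left : T ⊓ (V ⊓ V₁) ≤ T)).op r₀ •
      L.presheaf.map (homOfLE ((inf_le_right : T ⊓ (V ⊓ V₁) ≤ V ⊓ V₁).trans inf_le_left)).op e) m₀
    (by rw [Mero.germ_smul, X.presheaf.germ_res_apply, L.presheaf.germ_res_apply]; exact hr)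
  have hUT : U ≤ T := i₁.le.trans inf_le_left
  have hUV : U ≤ V := i₁.le.trans (inf_le_right.trans inf_le_left)
  have hUV₁ : U ≤ V₁ := i₂.le
  let e' : Γ(L, U) := L.presheaf.map (homOfLE hUV).op e
  let a : Γ(X, U) := X.presheaf.map (homOfLE hUT).op r₀
  let b' : Mero.regSub X U := ⟨X.presheaf.map (homOfLE hUV₁).op b.1, Mero.regSub_res (homOfLE hUV₁) b.2⟩
  have hval : ∀ y : U, s.1 ⟨y.1, trivial⟩ = (LocalizedModule.mk
      (X.presheaf.germ U y.1 y.2 a • L.presheaf.germ U y.1 y.2 e') (Mero.regGerm y b') : Mero.MStalk L y.1) := by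
    intro y
    refine (w ⟨y.1, hUV₁ y.2⟩).trans (Mero.mk_congr ?_ ?_)
    · have h1 := congrArg (L.presheaf.germ U y.1 y.2) hU
      rw [L.presheaf.germ_res_apply, L.presheaf.germ_res_apply, Mero.germ_smul, X.presheaf.germ_res_apply,
        L.presheaf.germ_res_apply] at h1
      show L.presheaf.germ V₁ y.1 _ m₀ = _
      simp only [a, e']
      rw [X.presheaf.germ_res_apply, L.presheaf.germ_res_apply]
      exact h1.symm
    · exact (germ_res hUV₁ b.1 y.1 y.2).symm
  have hgen : IsGen L e' := fun y hy => by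
    simp only [e', L.presheaf.germ_res_apply]
    exact he y (hUV hy)
  have ha : a ∈ Mero.regSub X U := fun y => by
    refine mem_nonZeroDivisors_iff_right.mpr fun c hc => ?_
    have h1 : aK y.1 c • s.1 ⟨y.1, trivial⟩ = 0 := by
      rw [hval y, algebraMap_smul, LocalizedModule.smul'_mk, smul_smul, hc, zero_smul,
        LocalizedModule.zero_mk]
    exact aK_injective y.1 ((hs y.1 _ h1).trans (map_zero _).symm)
  let S : Mero.regSub X U := ⟨a, ha⟩
  let f : Γ(Mero.kmod X, U) := ⟨fun y => LocalizedModule.mk (X.presheaf.germ U y.1 y.2 a) (Mero.regGerm y b'),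
    fun y => ⟨U, y.2, 𝟙 _, a, b', fun _ => rfl⟩⟩
  let g : Γ(Mero.kmod X, U) := ⟨fun y => LocalizedModule.mk (X.presheaf.germ U y.1 y.2 b'.1) (Mero.regGerm y S),
    fun y => ⟨U, y.2, 𝟙 _, b'.1, S, fun _ => rfl⟩⟩
  have hfg : f * g = 1 := Subtype.ext (funext fun y =>
    LocalizedModule.mk_mul_mk.trans ((Mero.mk_congr rfl (mul_comm _ _)).trans (Mero.mk_self_eq_one (Mero.regGerm y S * Mero.regGerm y b'))))
  refine ⟨U, hxU, Units.mkOfMulEqOne f g hfg, e', hgen, fun y => (hval y).trans ?_⟩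
  refine Eq.trans ?_ (LocalizedModule.mk_smul_mk _ _ _ _).symm
  exact Mero.mk_congr rfl (congrArg Subtype.val (mul_one (Mero.regGerm y b'))).symm

/-- Two frames of the same section give the same germ of divisor. -/
lemma frame_germ_eq {x : X} {ε ε' : L.presheaf.stalk x}
    (hε : Function.Bijective fun r : X.presheaf.stalk x => r • ε)
    (hε' : Function.Bijective fun r : X.presheaf.stalk x => r • ε') {g g' : (Mero.KStalk X x)ˣ}
    (h : (g : Mero.KStalk X x) • (LocalizedModule.mk ε 1 : Mero.MStalk L x) =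
      (g' : Mero.KStalk X x) • LocalizedModule.mk ε' 1) :
    (QuotientGroup.mk g : Mero.Germ X x) = QuotientGroup.mk g' := by
  obtain ⟨v, hv⟩ := hε.2 ε'
  obtain ⟨v', hv'⟩ := hε'.2 ε
  have hvv : v' * v = 1 := hε.1 (by
    show (v' * v) • ε = (1 : X.presheaf.stalk x) • ε
    rw [mul_smul, one_smul]
    exact (congrArg (v' • ·) hv).trans hv')
  have h' : ((g : Mero.KStalk X x) - (g' : Mero.KStalk X x) * aK x v) •
      (LocalizedModule.mk ε 1 : Mero.MStalk L x) = 0 := by
    rw [sub_smul, h, mul_smul, aK_smul_mk, show v • ε = ε' from hv, sub_self]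
  have h2 := sub_eq_zero.mp (eq_zero_of_smul_mk L hε.1 h')
  exact (germ_eq_iff.mpr ⟨Units.mkOfMulEqOne v v' (mul_comm v v' ▸ hvv), h2⟩).symm

include hs in
/-- The module of a regular meromorphic section is `O_X(D)` of its divisor. -/
theorem exists_divisor_iso_spec (hL : PicF.IsInvertible L) :
    ∃ D : Mero.Divisor X, Mero.IsDivOfMero L s D ∧ ∃ φ : L ≅ Mero.divMod D,
      ∀ (W : X.Opens) (n : Γ(L, W)) (y : W), (φ.hom.app W n).1 y • (s.1 ⟨y.1, trivial⟩ : Mero.MStalk L y.1) =
        LocalizedModule.mk (L.presheaf.germ W y.1 y.2 n) 1 := by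
  classical
  choose U hxU f e he hval using exists_unit_frame L s hs hL
  have hclass : ∀ (x y : X) (hy : y ∈ U x),
      (QuotientGroup.mk (uval (f y) ⟨y, hxU y⟩) : Mero.Germ X y) = QuotientGroup.mk (uval (f x) ⟨y, hy⟩) :=
    fun x y hy => frame_germ_eq L (he y y (hxU y)) (he x y hy)
      ((hval y ⟨y, hxU y⟩).symm.trans (hval x ⟨y, hy⟩))
  let D : Mero.Divisor X := ⟨fun y => QuotientGroup.mk (uval (f y) ⟨y, hxU y⟩),
    fun x => ⟨U x, hxU x, f x, fun y => hclass x y.1 y.2⟩⟩
  have hD : ∀ (x y : X) (hy : y ∈ U x), D.1 y = QuotientGroup.mk (uval (f x) ⟨y, hy⟩) := hclass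
  -- multiplication by the section
  let sv : ∀ y : X, Mero.MStalk L y := fun y => s.1 ⟨y, trivial⟩
  have hsv : ∀ (x y : X) (hy : y ∈ U x), sv y = ((f x : Γ(Mero.kmod X, U x)).1 ⟨y, hy⟩) •
      LocalizedModule.mk (L.presheaf.germ (U x) y hy (e x)) 1 := fun x y hy => hval x ⟨y, hy⟩
  let σ : ∀ y : X, Mero.KStalk X y ≃ₗ[Mero.KStalk X y] Mero.MStalk L y := fun y =>
    LinearEquiv.ofBijective
      (LinearMap.toSpanSingleton (Mero.KStalk X y) (Mero.MStalk L y) (sv y))
      ⟨(injective_iff_map_eq_zero _).mpr fun q hq => hs y q hq, fun v => by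
        induction v using LocalizedModule.induction_on with
        | h n t =>
          obtain ⟨r, hr⟩ := (he y y (hxU y)).2 n
          refine ⟨(LocalizedModule.mk r t : Mero.KStalk X y) * ↑(uval (f y) ⟨y, hxU y⟩)⁻¹, ?_⟩
          show (_ : Mero.KStalk X y) • sv y = _
          rw [hsv y y (hxU y), ← mul_smul, LinearMap.id_apply, mul_assoc]
          erw [Units.inv_mul]
          rw [mul_one]
          refine (LocalizedModule.mk_smul_mk _ _ _ _).trans (Mero.mk_congr hr ?_)
          rw [mul_one]⟩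
  have hσ : ∀ (x y : X) (hy : y ∈ U x) (r : X.presheaf.stalk y),
      (σ y).symm (LocalizedModule.mk (r • L.presheaf.germ (U x) y hy (e x)) 1) =
        aK y r * ↑(uval (f x) ⟨y, hy⟩)⁻¹ := by
    intro x y hy r
    rw [LinearEquiv.symm_apply_eq]
    show _ = (_ : Mero.KStalk X y) • sv y
    rw [hsv x y hy, ← mul_smul, LinearMap.id_apply, mul_assoc]
    erw [Units.inv_mul]
    rw [mul_one, aK_smul_mk]
  let τ : ∀ y : X, L.presheaf.stalk y → Mero.KStalk X y := fun y n => (σ y).symm (LocalizedModule.mk n 1)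
  have hmem : ∀ (W : X.Opens) (n : Γ(L, W)),
      (Mero.divLoc X D).pred fun y : W => τ y.1 (L.presheaf.germ W y.1 y.2 n) := by
    intro W n
    refine ⟨(Mero.kLoc X).locality _ fun y => ?_, fun y => ?_⟩
    · obtain ⟨r, hr⟩ := (he y.1 y.1 (hxU y.1)).2 (L.presheaf.germ W y.1 y.2 n)
      obtain ⟨T, hyT, r₀, rfl⟩ := X.presheaf.exists_germ_eq r
      have h3 : y.1 ∈ T ⊓ U y.1 := ⟨hyT, hxU y.1⟩
      obtain ⟨O, hyO, i₁, i₂, hO⟩ := L.presheaf.germ_eq y.1 h3 y.2
        (X.presheaf.map (homOfLE (inf_le_left : T ⊓ U y.1 ≤ T)).op r₀ •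
          L.presheaf.map (homOfLE (inf_le_right : T ⊓ U y.1 ≤ U y.1)).op (e y.1)) n
        (by rw [Mero.germ_smul, X.presheaf.germ_res_apply, L.presheaf.germ_res_apply]; exact hr)
      refine ⟨O, hyO, i₂, ?_⟩
      let q : Γ(Mero.kmod X, O) := Mero.toK X O (X.presheaf.map (homOfLE (i₁.le.trans inf_le_left)).op r₀) *
        (Mero.kmod X).presheaf.map (homOfLE (i₁.le.trans inf_le_right)).op (↑(f y.1)⁻¹ : Γ(Mero.kmod X, U y.1))
      refine (congrArg (Mero.kLoc X).pred (funext fun z => ?_)).mpr q.2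
      have h1 := congrArg (L.presheaf.germ O z.1 z.2) hO
      rw [L.presheaf.germ_res_apply, L.presheaf.germ_res_apply, Mero.germ_smul, X.presheaf.germ_res_apply,
        L.presheaf.germ_res_apply] at h1
      show τ z.1 (L.presheaf.germ W z.1 _ n) = q.1 z
      rw [← h1]
      refine (hσ y.1 z.1 (i₁.le z.2).2 _).trans ?_
      refine Eq.symm ?_
      show (Mero.toK X O _).1 z * _ = _
      rw [toK_val, germ_res]
      rfl
    · obtain ⟨r, hr⟩ := (he y.1 y.1 (hxU y.1)).2 (L.presheaf.germ W y.1 y.2 n)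
      rw [divCond_iff D y.1 _ (hD y.1 y.1 (hxU y.1))]
      refine ⟨r, ?_⟩
      show _ = τ y.1 (L.presheaf.germ W y.1 y.2 n) * _
      rw [← hr]
      show _ = (σ y.1).symm _ * _
      rw [hσ, mul_assoc, Units.inv_mul, mul_one]
  let φ : L ⟶ Mero.divMod D :=
    ⟨PresheafOfModules.homMk (M₁ := L.val) (M₂ := (Mero.divMod D).val)
      { app := fun W => AddCommGrpCat.ofHom
          { toFun := fun (n : Γ(L, W.unop)) => (⟨_, hmem W.unop n⟩ : Γ(Mero.divMod D, W.unop))
            map_zero' := Subtype.ext (funext fun y => by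
              show τ y.1 _ = 0
              erw [map_zero]
              show (σ y.1).symm _ = 0
              rw [LocalizedModule.zero_mk, map_zero])
            map_add' := fun n n' => Subtype.ext (funext fun y => by
              show τ y.1 _ = τ y.1 _ + τ y.1 _
              show (σ y.1).symm _ = (σ y.1).symm _ + (σ y.1).symm _
              refine (congrArg _ ?_).trans (map_add (σ y.1).symm _ _)
              refine Eq.trans ?_ LocalizedModule.mk_add_mk.symm
              exact Mero.mk_congr ((map_add (L.presheaf.germ W.unop y.1 y.2).hom n n').trans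
                (by simp only [one_smul]; rfl)) (by rw [one_mul])) }
        naturality := fun {W W'} i => by
          ext n
          refine Subtype.ext (funext fun y => ?_)
          show τ y.1 _ = τ y.1 _
          exact congrArg _ (TopCat.Presheaf.germ_res_apply' L.presheaf i y.1 y.2 n) }
      (fun W r n => Subtype.ext (funext fun y => by
        show τ y.1 _ = X.presheaf.germ W.unop y.1 y.2 r • τ y.1 _
        refine (congrArg (τ y.1) (Mero.germ_smul L W.unop y.1 y.2 r n)).trans ?_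
        show (σ y.1).symm _ = _ • (σ y.1).symm _
        rw [← aK_smul_mk, map_smul, algebraMap_smul]))⟩
  have hφ : ∀ (W : X.Opens) (n : Γ(L, W)) (y : W),
      (φ.app W n).1 y = τ y.1 (L.presheaf.germ W y.1 y.2 n) := fun _ _ _ => rfl
  have hbij : ∀ W : X.Opens, Function.Bijective (φ.app W) := by
    intro W
    have hinj : ∀ (W' : X.Opens) (n n' : Γ(L, W')), φ.app W' n = φ.app W' n' → n = n' := by
      intro W' n n' hnn
      refine TopCat.Presheaf.section_ext ⟨L.presheaf, L.isSheaf⟩ W' n n' fun y hy => ?_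
      have h1 := congrFun (congrArg Subtype.val hnn) ⟨y, hy⟩
      rw [hφ, hφ] at h1
      obtain ⟨⟨u, hu⟩, hu0⟩ := LocalizedModule.mk_eq.mp ((σ y).symm.injective h1)
      simp only [Submonoid.smul_def, OneMemClass.coe_one, one_smul] at hu0
      obtain ⟨r, hr⟩ := (he y y (hxU y)).2 (L.presheaf.germ W' y hy n - L.presheaf.germ W' y hy n')
      have h2 : u * r = 0 := (he y y (hxU y)).1 (by
        show (u * r) • _ = (0 : X.presheaf.stalk y) • _
        rw [zero_smul, mul_smul]
        exact (congrArg (u • ·) hr).trans (by rw [smul_sub, hu0, sub_self]))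
      have hr0 := (mem_nonZeroDivisors_iff.mp (Mero.regStalk_le_nonZeroDivisors y hu)).1 r h2
      rw [hr0] at hr
      simp only [zero_smul] at hr
      exact sub_eq_zero.mp hr.symm
    refine ⟨fun n n' h => hinj W n n' h, fun t => ?_⟩
    have hloc : ∀ y : W, ∃ (O : X.Opens) (hOW : O ≤ W) (_ : y.1 ∈ O) (n : Γ(L, O)),
        φ.app O n = (Mero.divMod D).presheaf.map (homOfLE hOW).op t := by
      intro y
      let p : Γ(Mero.kmod X, W ⊓ U y.1) :=
        ⟨fun z => t.1 ⟨z.1, z.2.1⟩ * (f y.1 : Γ(Mero.kmod X, U y.1)).1 ⟨z.1, z.2.2⟩,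
          Mero.kLoc_mul X _ _ _ ((Mero.kLoc X).res (homOfLE inf_le_left) _ t.2.1)
            ((Mero.kLoc X).res (homOfLE inf_le_right) _ (f y.1 : Γ(Mero.kmod X, U y.1)).2)⟩
      obtain ⟨r, hr⟩ := exists_section p fun z =>
        (divCond_iff D z.1 _ (hD y.1 z.1 z.2.2) _).1 (t.2.2 ⟨z.1, z.2.1⟩)
      refine ⟨W ⊓ U y.1, inf_le_left, ⟨y.2, hxU y.1⟩,
        r • L.presheaf.map (homOfLE inf_le_right).op (e y.1), Subtype.ext (funext fun z => ?_)⟩
      rw [hφ, Mero.germ_smul, L.presheaf.germ_res_apply]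
      show (σ z.1).symm _ = t.1 ⟨z.1, z.2.1⟩
      rw [hσ]
      have h1 : t.1 ⟨z.1, z.2.1⟩ * (f y.1 : Γ(Mero.kmod X, U y.1)).1 ⟨z.1, z.2.2⟩ =
          aK z.1 (X.presheaf.germ _ z.1 z.2 r) :=
        (congrFun (congrArg Subtype.val hr) z).trans (toK_val r z)
      rw [← h1, mul_assoc]
      refine (congrArg (t.1 ⟨z.1, z.2.1⟩ * ·) ?_).trans (mul_one _)
      exact congrFun (congrArg Subtype.val (f y.1).mul_inv) ⟨z.1, z.2.2⟩
    choose O hOW hyO n hn using hloc
    obtain ⟨m, hm, -⟩ := TopCat.Sheaf.existsUnique_gluing' (F := ⟨L.presheaf, L.isSheaf⟩) O W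
      (fun y => homOfLE (hOW y)) (fun y hy => Opens.mem_iSup.mpr ⟨⟨y, hy⟩, hyO _⟩) n (fun i j => by
        refine hinj _ _ _ (Subtype.ext (funext fun z => ?_))
        rw [hφ, hφ]
        erw [L.presheaf.germ_res_apply, L.presheaf.germ_res_apply]
        exact (congrFun (congrArg Subtype.val (hn i)) ⟨z.1, z.2.1⟩).trans
          (congrFun (congrArg Subtype.val (hn j)) ⟨z.1, z.2.2⟩).symm)
    refine ⟨m, Subtype.ext (funext fun y => ?_)⟩
    have h1 := congrArg (L.presheaf.germ (O y) y.1 (hyO y)) (hm y)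
    erw [L.presheaf.germ_res_apply] at h1
    rw [hφ]
    erw [h1]
    exact congrFun (congrArg Subtype.val (hn y)) ⟨y.1, hyO y⟩
  have : IsIso φ := by
    rw [Scheme.Modules.Hom.isIso_iff_isIso_app]
    intro W
    rw [ConcreteCategory.isIso_iff_bijective]
    exact hbij W
  refine ⟨D, fun x ε g hε hg => ?_, asIso φ, fun W n y => ?_⟩
  · rw [hD x x (hxU x)]
    have hbij : Function.Bijective fun r : X.presheaf.stalk x => r • ε := by
      obtain ⟨v, hv⟩ := (he x x (hxU x)).2 ε
      have hmem : L.presheaf.germ (U x) x (hxU x) (e x) ∈ Submodule.span (X.presheaf.stalk x) {ε} := by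
        rw [hε]; trivial
      obtain ⟨v', hv'⟩ := Submodule.mem_span_singleton.mp hmem
      simp only at hv
      have hvv : v' * v = 1 := (he x x (hxU x)).1 (by
        show (v' * v) • _ = (1 : X.presheaf.stalk x) • _
        rw [one_smul, mul_smul, hv, hv'])
      refine ⟨fun a b hab => ?_, fun m => ?_⟩
      · simp only [← hv, smul_smul] at hab
        have h1 := congrArg (v' * ·) ((he x x (hxU x)).1 hab)

        calc a = v' * v * a := by rw [hvv, one_mul]
          _ = v' * (a * v) := by ring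
          _ = v' * (b * v) := h1
          _ = v' * v * b := by ring
          _ = b := by rw [hvv, one_mul]
      · obtain ⟨r, hr⟩ := (he x x (hxU x)).2 m
        exact ⟨r * v', by simp only [mul_smul, hv']; exact hr⟩
    exact frame_germ_eq L (he x x (hxU x)) hbij ((hsv x x (hxU x)).symm.trans hg)
  · exact (σ y.1).apply_symm_apply _

include hs in
/-- The module of a regular meromorphic section is `O_X(D)` of its divisor. -/
theorem exists_divisor_iso (hL : PicF.IsInvertible L) :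
    ∃ D : Mero.Divisor X, Nonempty (L ≅ Mero.divMod D) := by
  obtain ⟨D, -, φ, -⟩ := exists_divisor_iso_spec L s hs hL
  exact ⟨D, ⟨φ⟩⟩

/-- A divisor module has a regular meromorphic section. -/
theorem hasRegularMero_of_iso (D : Mero.Divisor X) (φ : L ≅ Mero.divMod D) :
    Mero.HasRegularMero L := by
  classical
  choose U hxU f hf using exists_local_rep D
  have hfi : ∀ x (y : U x), (f x : Γ(Mero.kmod X, U x)).1 y * (↑(f x)⁻¹ : Γ(Mero.kmod X, U x)).1 y = 1 :=
    fun x y => congrFun (congrArg Subtype.val (f x).mul_inv) y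
  let e : ∀ x, Γ(Mero.divMod D, U x) := fun x =>
    ⟨(↑(f x)⁻¹ : Γ(Mero.kmod X, U x)).1, (↑(f x)⁻¹ : Γ(Mero.kmod X, U x)).2,
      fun y => (divCond_iff D y.1 _ (hf x y) _).2 ⟨1, by rw [map_one, mul_comm]; exact (hfi x y).symm⟩⟩
  let ψ : ∀ x, Γ(L, U x) := fun x => φ.inv.app (U x) (e x)
  have hcomb : ∀ (x y : X) (hy : y ∈ U x),
      (f y : Γ(Mero.kmod X, U y)).1 ⟨y, hxU y⟩ •
          (LocalizedModule.mk (L.presheaf.germ (U y) y (hxU y) (ψ y)) 1 : Mero.MStalk L y) =
        (f x : Γ(Mero.kmod X, U x)).1 ⟨y, hy⟩ • LocalizedModule.mk (L.presheaf.germ (U x) y hy (ψ x)) 1 := by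
    intro x y hy
    let O := U x ⊓ U y
    let p : Γ(Mero.kmod X, O) :=
      ⟨fun z => (f y : Γ(Mero.kmod X, U y)).1 ⟨z.1, z.2.2⟩ * (↑(f x)⁻¹ : Γ(Mero.kmod X, U x)).1 ⟨z.1, z.2.1⟩,
        Mero.kLoc_mul X _ _ _ ((Mero.kLoc X).res (homOfLE inf_le_right) _ (f y : Γ(Mero.kmod X, U y)).2)
          ((Mero.kLoc X).res (homOfLE inf_le_left) _ (↑(f x)⁻¹ : Γ(Mero.kmod X, U x)).2)⟩
    obtain ⟨r, hr⟩ := exists_section p fun z => by
      have := (divCond_iff D z.1 _ (hf y ⟨z.1, z.2.2⟩) _).1 ((e x).2.2 ⟨z.1, z.2.1⟩)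
      rwa [mul_comm] at this
    have hr' : ∀ z : O, aK z.1 (X.presheaf.germ O z.1 z.2 r) =
        (f y : Γ(Mero.kmod X, U y)).1 ⟨z.1, z.2.2⟩ * (↑(f x)⁻¹ : Γ(Mero.kmod X, U x)).1 ⟨z.1, z.2.1⟩ :=
      fun z => (toK_val r z).symm.trans (congrFun (congrArg Subtype.val hr) z).symm
    have he : (Mero.divMod D).presheaf.map (homOfLE (inf_le_left : O ≤ U x)).op (e x) =
        r • (Mero.divMod D).presheaf.map (homOfLE (inf_le_right : O ≤ U y)).op (e y) :=
      Subtype.ext (funext fun z => by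
        refine Eq.trans ?_ (Algebra.smul_def _ _).symm
        show _ = aK z.1 _ * (↑(f y)⁻¹ : Γ(Mero.kmod X, U y)).1 ⟨z.1, z.2.2⟩
        rw [hr' z, mul_right_comm, hfi y ⟨z.1, z.2.2⟩, one_mul]
        rfl)
    have hnat : ∀ (z : X) (h : O ≤ U z), L.presheaf.map (homOfLE h).op (ψ z) =
        φ.inv.app O ((Mero.divMod D).presheaf.map (homOfLE h).op (e z)) := fun z h =>
      (congr($(φ.inv.mapPresheaf.naturality (homOfLE h).op) (e z))).symm
    have h1 : L.presheaf.map (homOfLE (inf_le_left : O ≤ U x)).op (ψ x) =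
        r • L.presheaf.map (homOfLE (inf_le_right : O ≤ U y)).op (ψ y) := by
      rw [hnat, hnat, he, Scheme.Modules.Hom.app_smul]
    have hyO : y ∈ O := ⟨hy, hxU y⟩
    have h2 := congrArg (L.presheaf.germ O y hyO) h1
    rw [L.presheaf.germ_res_apply, Mero.germ_smul, L.presheaf.germ_res_apply] at h2
    rw [h2, ← aK_smul_mk, ← mul_smul, hr' ⟨y, hyO⟩, ← mul_assoc,
      mul_comm ((f x : Γ(Mero.kmod X, U x)).1 _), mul_assoc, hfi x ⟨y, hy⟩, mul_one]
  refine ⟨⟨fun x => (f x.1 : Γ(Mero.kmod X, U x.1)).1 ⟨x.1, hxU x.1⟩ •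
    LocalizedModule.mk (L.presheaf.germ (U x.1) x.1 (hxU x.1) (ψ x.1)) 1, ?_⟩, fun x q hq => ?_⟩
  · rintro ⟨x, -⟩
    obtain ⟨O, hxO, i, a, b, w⟩ := (f x : Γ(Mero.kmod X, U x)).2 ⟨x, hxU x⟩
    refine ⟨O, hxO, homOfLE le_top, a • L.presheaf.map i.op (ψ x), b, fun y => ?_⟩
    refine (hcomb x y.1 (i.le y.2)).trans ((congrArg (· • _) (w y)).trans
      ((LocalizedModule.mk_smul_mk _ _ _ _).trans (Mero.mk_congr ?_ (congrArg Subtype.val (mul_one _)))))
    rw [Mero.germ_smul, L.presheaf.germ_res_apply]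
  · change q • ((f x : Γ(Mero.kmod X, U x)).1 ⟨x, hxU x⟩ • _) = 0 at hq
    rw [← mul_smul] at hq
    have h0 := eq_zero_of_smul_mk L (fun r r' hrr => ?_) hq
    · exact ((uval (f x) ⟨x, hxU x⟩).isUnit.mul_left_eq_zero).mp h0
    · obtain ⟨T, hxT, r, rfl⟩ := X.presheaf.exists_germ_eq r
      obtain ⟨T', hxT', r', rfl⟩ := X.presheaf.exists_germ_eq r'
      have hx3 : x ∈ T ⊓ T' ⊓ U x := ⟨⟨hxT, hxT'⟩, hxU x⟩
      let O := T ⊓ T' ⊓ U x
      let ψO := L.presheaf.map (homOfLE (inf_le_right : O ≤ U x)).op (ψ x)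
      have h1 : L.presheaf.germ O x hx3 (X.presheaf.map (homOfLE (inf_le_left.trans inf_le_left : O ≤ T)).op r • ψO) =
          L.presheaf.germ O x hx3 (X.presheaf.map (homOfLE (inf_le_left.trans inf_le_right : O ≤ T')).op r' • ψO) := by
        simp only [Mero.germ_smul, ψO, X.presheaf.germ_res_apply, L.presheaf.germ_res_apply]
        exact hrr
      obtain ⟨O', hxO', i, j, hO'⟩ := L.presheaf.germ_eq x hx3 hx3 _ _ h1
      obtain rfl : i = j := Subsingleton.elim _ _
      have h2 := congrArg (φ.hom.app O') hO'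
      have hnat : ∀ m : Γ(L, O), φ.hom.app O' (L.presheaf.map i.op m) =
          (Mero.divMod D).presheaf.map i.op (φ.hom.app O m) := fun m =>
        congr($(φ.hom.mapPresheaf.naturality i.op) m)
      rw [hnat, hnat, Scheme.Modules.Hom.app_smul, Scheme.Modules.Hom.app_smul] at h2
      have hinv : φ.hom.app O ψO = (Mero.divMod D).presheaf.map (homOfLE (inf_le_right : O ≤ U x)).op (e x) := by
        refine (congr($(φ.hom.mapPresheaf.naturality (homOfLE (inf_le_right : O ≤ U x)).op) (ψ x))).trans ?_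
        show (Mero.divMod D).presheaf.map _ (φ.hom.app (U x) (φ.inv.app (U x) (e x))) = _
        rw [← ConcreteCategory.comp_apply (φ.inv.app (U x)), ← Scheme.Modules.Hom.comp_app, φ.inv_hom_id]
        rfl
      rw [hinv] at h2
      have h3 : aK x (X.presheaf.germ O x hx3 (X.presheaf.map (homOfLE (inf_le_left.trans inf_le_left : O ≤ T)).op r)) *
          (↑(f x)⁻¹ : Γ(Mero.kmod X, U x)).1 ⟨x, hxU x⟩ =
        aK x (X.presheaf.germ O x hx3 (X.presheaf.map (homOfLE (inf_le_left.trans inf_le_right : O ≤ T')).op r')) *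
          (↑(f x)⁻¹ : Γ(Mero.kmod X, U x)).1 ⟨x, hxU x⟩ := by
        have := congrFun (congrArg Subtype.val h2) ⟨x, hxO'⟩
        exact (Algebra.smul_def _ _).symm.trans (this.trans (Algebra.smul_def _ _))
      rw [germ_res, germ_res] at h3
      exact aK_injective x ((uval (f x)⁻¹ ⟨x, hxU x⟩).isUnit.mul_right_cancel h3)

end Groth.Agent.H28Mero
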